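import Cfsg.Agent.Lib.CharNormal.RealOdd.Main

/-!
# When all characters of odd degree of a solvable group are real

Exactly when the Sylow 2-subgroup is self-normalizing and all its linear characters have order
at most two.
-/

set_option autoImplicit false

namespace CfsgLib.RealOdd

open CfsgLib.Char CfsgLib.Char.EqualCentralizers CfsgLib.CharNormal
open scoped ComplexConjugate

universe u v

theorem realVal_of_forall_one {G : Type u} [Group G] [Subsingleton G] [Finite G] {χ : G → ℂ}
    (hχ : Cfsg.IsIrrCharacter G χ) : RealVal χ := fun g => by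
  have := Fintype.ofFinite G
  rw [Subsingleton.elim g 1, irr_one_eq_one_of_comm (fun a b => Subsingleton.elim _ _) hχ, map_one]

theorem realVal_of_subsingleton {A : Type v} [Group A] [Subsingleton A] (l : A →* ℂˣ) : l ^ 2 = 1 :=
  MonoidHom.ext fun a => by rw [Subsingleton.elim a 1, map_one, map_one]

theorem real_of_selfNormalizing (n : ℕ) : ∀ {G : Type u} [Group G] [Fintype G]
    [Group.IsSolvable G] {A : Type v} [Group A] [Fintype A] (ι : A →* G), SylEmb ι →
    Nat.card G ≤ n → (∀ g : G, (∀ a, ∃ b, g * ι a * g⁻¹ = ι b) → g ∈ ι.range) →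
    (∀ l : A →* ℂˣ, l ^ 2 = 1) →
    ∀ χ : G → ℂ, Cfsg.IsIrrCharacter G χ → OddDeg χ → RealVal χ := by
  induction n using Nat.strong_induction_on with
  | _ n IH => ?_
  intro G _ _ _ A _ _ ι hι hn hself hlin χ hχ hd
  rcases subsingleton_or_nontrivial G with hG | hG
  · exact realVal_of_forall_one hχ
  classical
  obtain ⟨V, hV, hne, hcomm, hexp | hodd⟩ := exists_layer (G := G)
  · have := Fintype.ofFinite V
    have hVR : V ≤ ι.range := hι.le_range (isPGroup_two_of_sq hexp)
    obtain ⟨l, hl⟩ := exists_con (ι := ι) hι.pgroup hχ hd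
    have := Fintype.ofFinite (stab hι hVR l ⧸ vT hι hVR l)
    have := Fintype.ofFinite (A ⧸ kA hι hVR l)
    obtain ⟨μ, -, hμ2, hμV⟩ := exists_mu hι hVR l hexp
    obtain ⟨η, hη, hind, hdη, -, hov, -⟩ :=
      exists_correspondent hι hVR l hχ hd (theta_sq hι hVR l hexp) hl
    obtain ⟨β, hβ, he, -, hbd⟩ := exists_descend hι hVR l (hμ2 (hlin l)) hμV hη hov
    have hβr : RealVal β := by
      refine IH _ (lt_of_lt_of_le (card_stab_quot_lt hι hVR l hne) hn) (iotaQ hι hVR l)
        (iotaQ_syl hι hVR l) le_rfl (fun x hx => ?_) (fun q => ?_) β hβ (hbd hdη)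
      · obtain ⟨t, rfl⟩ := QuotientGroup.mk_surjective x
        obtain ⟨a, ha⟩ := hself (t : G) fun a => by
          obtain ⟨bq, hb⟩ := hx (a : A ⧸ kA hι hVR l)
          obtain ⟨b, rfl⟩ := QuotientGroup.mk_surjective bq
          rw [iotaQ_mk, iotaQ_mk, ← QuotientGroup.mk_inv, ← QuotientGroup.mk_mul,
            ← QuotientGroup.mk_mul, QuotientGroup.eq] at hb
          obtain ⟨c, hc⟩ := hVR (Subgroup.mem_subgroupOf.mp hb :)
          refine ⟨b * c⁻¹, ?_⟩
          rw [map_mul, map_inv, hc]
          simp [coe_iotaT]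
        exact ⟨(a : A ⧸ kA hι hVR l), by
          rw [iotaQ_mk]; exact congrArg _ (Subtype.ext ha)⟩
      · refine QuotientGroup.monoidHom_ext _ (MonoidHom.ext fun a => ?_)
        exact DFunLike.congr_fun (hlin (q.comp (QuotientGroup.mk' _))) a
    have hηr : RealVal η := fun t => by
      have h1 := congrFun he t
      have h2 : η t = β (t : _ ⧸ vT hι hVR l) * linFun μ t := by
        rw [Function.comp_apply, Pi.mul_apply] at h1
        rw [← h1, mul_assoc]
        have h3 : linFun μ t * linFun μ t = 1 := by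
          rw [linFun_apply, ← Units.val_mul, ← MonoidHom.mul_apply, mul_self_of_sq (hμ2 (hlin l))]
          rfl
        rw [h3, mul_one]
      rw [h2, map_mul, hβr, realVal_linFun (hμ2 (hlin l))]
    obtain ⟨χ', -, hind', hr, -, -, -⟩ := exists_induced hι hVR l hη hov
    rw [← hind, hind']
    exact hr hηr
  · have := Fintype.ofFinite V
    have := Fintype.ofFinite (G ⧸ V)
    have hfix : ∀ v ∈ V, (∀ a, ι a * v * (ι a)⁻¹ = v) → v = 1 := by
      intro v hv hc
      obtain ⟨a, ha⟩ := hself v fun a => ⟨a, by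
        have h := hc a
        calc v * ι a * v⁻¹ = (ι a * v * (ι a)⁻¹) * ι a * v⁻¹ := by rw [h]
          _ = ι a := by group⟩
      have ha' : ι a ∈ V := by rw [ha]; exact hv
      rw [← ha, hι.eq_one_of_mem hodd ha', map_one]
    obtain ⟨β, hβ, rfl⟩ := exists_irr_eq_comp_mk' V hχ
      (odd_trivial hcomm hι.pgroup hodd hfix hχ hd)
    have hβr : RealVal β := by
      refine IH _ (lt_of_lt_of_le (card_quot_lt hne) hn) ((QuotientGroup.mk' V).comp ι)
        (hι.quot hodd) le_rfl (fun x hx => ?_) hlin β hβ (oddDeg_comp_mk.mp hd)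
      obtain ⟨g, rfl⟩ := QuotientGroup.mk'_surjective V x
      obtain ⟨m, hm, hmn⟩ := exists_norm_lift hι hodd g fun a => by
        obtain ⟨b, hb⟩ := hx a
        exact ⟨b, by simpa using hb⟩
      obtain ⟨a, ha⟩ := hself m hmn
      exact ⟨a, by rw [MonoidHom.comp_apply, ha, hm]⟩
    exact fun g => hβr _

theorem selfNormalizing_of_real (n : ℕ) : ∀ {G : Type u} [Group G] [Fintype G]
    [Group.IsSolvable G] {A : Type v} [Group A] [Fintype A] (ι : A →* G), SylEmb ι →
    Nat.card G ≤ n → (∀ χ : G → ℂ, Cfsg.IsIrrCharacter G χ → OddDeg χ → RealVal χ) →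
    (∀ g : G, (∀ a, ∃ b, g * ι a * g⁻¹ = ι b) → g ∈ ι.range) ∧ (∀ l : A →* ℂˣ, l ^ 2 = 1) := by
  induction n using Nat.strong_induction_on with
  | _ n IH => ?_
  intro G _ _ _ A _ _ ι hι hn hreal
  rcases subsingleton_or_nontrivial G with hG | hG
  · have hA : Subsingleton A := hι.inj.subsingleton
    exact ⟨fun g _ => by rw [Subsingleton.elim g 1]; exact one_mem _, realVal_of_subsingleton⟩
  classical
  obtain ⟨V, hV, hne, hcomm, hVc⟩ := exists_layer (G := G)
  have := Fintype.ofFinite V
  have := Fintype.ofFinite (G ⧸ V)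
  have hqreal : ∀ β : G ⧸ V → ℂ, Cfsg.IsIrrCharacter (G ⧸ V) β → OddDeg β → RealVal β :=
    fun β hβ hd => realVal_comp_mk
      (hreal _ (isIrr_comp_mk' V hβ) (oddDeg_comp_mk.mpr hd))
  rcases hVc with hexp | hodd
  · have hVR : V ≤ ι.range := hι.le_range (isPGroup_two_of_sq hexp)
    let K : Subgroup A := V.comap ι
    have : K.Normal := hV.comap ι
    have := Fintype.ofFinite (A ⧸ K)
    let ιq : A ⧸ K →* G ⧸ V := QuotientGroup.map K V ι le_rfl
    have hιq : SylEmb ιq :=
      { inj := (injective_iff_map_eq_one _).mpr fun q hq => by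
          induction q using QuotientGroup.induction_on with
          | H a => exact (QuotientGroup.eq_one_iff _).mpr ((QuotientGroup.eq_one_iff _).mp hq : _)
        pgroup := hι.pgroup.to_quotient _
        odd_index := by
          refine hι.odd_index.of_dvd_nat ((dvd_of_eq ?_).trans
            (ι.range.index_map_dvd (QuotientGroup.mk'_surjective V)))
          congr 1
          ext x
          constructor
          · rintro ⟨q, rfl⟩
            induction q using QuotientGroup.induction_on with
            | H a => exact ⟨_, ⟨a, rfl⟩, rfl⟩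
          · rintro ⟨_, ⟨a, rfl⟩, rfl⟩
            exact ⟨(a : A ⧸ K), rfl⟩ }
    obtain ⟨hself, hlin⟩ :=
      IH _ (lt_of_lt_of_le (card_quot_lt hne) hn) ιq hιq le_rfl hqreal
    refine ⟨fun g hg => ?_, fun l => ?_⟩
    · obtain ⟨q, hq⟩ := hself (g : G ⧸ V) fun q => by
        obtain ⟨a, rfl⟩ := QuotientGroup.mk_surjective q
        obtain ⟨b, hb⟩ := hg a
        refine ⟨(b : A ⧸ K), ?_⟩
        show (g : G ⧸ V) * (ι a : G ⧸ V) * (g : G ⧸ V)⁻¹ = (ι b : G ⧸ V)
        rw [← QuotientGroup.mk_inv, ← QuotientGroup.mk_mul, ← QuotientGroup.mk_mul, hb]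
      obtain ⟨a, rfl⟩ := QuotientGroup.mk_surjective q
      have h1 : (ι a : G ⧸ V) = g := hq
      have h2 := hVR (QuotientGroup.eq.mp h1)
      have := mul_mem (⟨a, rfl⟩ : ι a ∈ ι.range) h2
      rwa [mul_inv_cancel_left] at this
    · have := Fintype.ofFinite (stab hι hVR l ⧸ vT hι hVR l)
      have := Fintype.ofFinite (A ⧸ kA hι hVR l)
      obtain ⟨μ, hμ, -, hμV⟩ := exists_mu hι hVR l hexp
      have hηV : Cfsg.classInner (fun v : V => linFun μ ⟨v, le_stab hι hVR l v.2⟩)
          (linFun (thetaHom hι hVR l)) ≠ 0 := by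
        rw [show (fun v : V => linFun μ ⟨v, le_stab hι hVR l v.2⟩) = linFun (thetaHom hι hVR l)
          from funext fun v => by rw [linFun_apply, hμV, linFun_apply],
          classInner_irr_self (isCharacter_linFun' _)]
        exact one_ne_zero
      obtain ⟨χ, hχ, -, -, hd, -, hr⟩ :=
        exists_induced hι hVR l (isCharacter_linFun' μ) hηV
      have hμ2 : μ ^ 2 = 1 := sq_eq_one_of_realVal (hr
        (hreal χ hχ (hd ⟨1, odd_one, by rw [(isCharacter_linFun μ).2, Nat.cast_one]⟩))
        (realVal_linFun (theta_sq hι hVR l hexp)))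
      let q : A ⧸ K →* ℂˣ := QuotientGroup.lift K (l * μ.comp (iotaT hι hVR l)) fun a ha => by
        show l a * μ (iotaT hι hVR l a) = 1
        rw [hμ a ha, ← sq]
        have h2 := DFunLike.congr_fun (theta_sq hι hVR l hexp) ⟨ι a, ha⟩
        rwa [MonoidHom.pow_apply, thetaHom, MonoidHom.comp_apply, jV_apply hι hVR (a := a) rfl,
          MonoidHom.one_apply] at h2
      refine MonoidHom.ext fun a => ?_
      have h1 : (l a * μ (iotaT hι hVR l a)) ^ 2 = 1 :=
        DFunLike.congr_fun (hlin q) (a : A ⧸ K)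
      rwa [mul_pow, ← MonoidHom.pow_apply μ, hμ2, MonoidHom.one_apply, mul_one] at h1
  · obtain ⟨hself, hlin⟩ := IH _ (lt_of_lt_of_le (card_quot_lt hne) hn)
      ((QuotientGroup.mk' V).comp ι) (hι.quot hodd) le_rfl hqreal
    refine ⟨fun g hg => ?_, hlin⟩
    -- the fixed points of the Sylow subgroup on `V` are trivial
    have hfix : ∀ v ∈ V, (∀ a, ι a * v * (ι a)⁻¹ = v) → v = 1 := by
      intro v hv hc
      let H : Subgroup G := ι.range ⊔ V
      letI : CommGroup V :=
        { (inferInstance : Group V) with mul_comm := fun a b => Subtype.ext (hcomm a a.2 b b.2) }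
      let π : V →* V := ∏ a : A, (MulAut.conjNormal (ι a) : MulAut V).toMonoidHom
      have hπapp : ∀ w : V, π w = ∏ a : A, MulAut.conjNormal (ι a) w := fun w => by
        simp [π, MonoidHom.finsetProd_apply]
      by_contra hv1
      have hπv : π ⟨v, hv⟩ = ⟨v, hv⟩ ^ Nat.card A := by
        rw [hπapp, Nat.card_eq_fintype_card, ← Finset.card_univ, ← Finset.prod_const]
        refine Finset.prod_congr rfl fun a _ => Subtype.ext ?_
        rw [MulAut.conjNormal_apply]; exact hc a
      obtain ⟨j, hj⟩ := IsPGroup.iff_card.mp hι.pgroup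
      have hπv1 : π ⟨v, hv⟩ ≠ 1 := by
        rw [hπv, hj]
        intro h
        have h2 : (⟨v, hv⟩ : V) ^ Nat.card V = 1 := pow_card_eq_one'
        have h3 := pow_gcd_eq_one.mpr ⟨h, h2⟩
        rw [(Nat.Coprime.pow_left j (Nat.coprime_two_left.mpr hodd)).gcd_eq_one, pow_one] at h3
        exact hv1 (congrArg Subtype.val h3)
      obtain ⟨f, hf⟩ := CommGroup.exists_apply_ne_one_of_hasEnoughRootsOfUnity V ℂ hπv1
      -- an invariant character of `V` extends to `V A`
      let θ : V →* ℂˣ := f.comp π
      have hinv : ∀ (a : A) (w : V), θ (MulAut.conjNormal (ι a) w) = θ w := by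
        intro a w
        show f (π _) = f (π w)
        rw [hπapp, hπapp]
        congr 1
        refine Fintype.prod_equiv (Equiv.mulRight a) _ _ fun c => ?_
        show _ = MulAut.conjNormal (ι (c * a)) w
        rw [map_mul, map_mul]; rfl
      have hVH : V ≤ H := le_sup_right
      have hRH : ι.range ≤ H := le_sup_left
      let VH : Subgroup H := V.subgroupOf H
      let θH : VH →* ℂˣ := θ.comp (Subgroup.subgroupOfEquivOfLe hVH).toMonoidHom
      have hinvH : ∀ (h : H) (w : VH), linFun θH ⟨h * w * h⁻¹,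
          (Subgroup.Normal.subgroupOf hV H).conj_mem w w.2 h⟩ = linFun θH w := by
        intro h w
        obtain ⟨_, ⟨a, rfl⟩, x, hx, he⟩ := Subgroup.mem_sup_of_normal_right.mp h.2
        show ((θ _ : ℂˣ) : ℂ) = ((θ _ : ℂˣ) : ℂ)
        congr 1
        refine Eq.trans (congrArg θ ?_) (hinv a ((Subgroup.subgroupOfEquivOfLe hVH) w))
        refine Subtype.ext ?_
        rw [MulAut.conjNormal_apply]
        show (h : G) * w * (h : G)⁻¹ = ι a * w * (ι a)⁻¹
        have hw : ((w : H) : G) ∈ V := w.2
        have hxw : x * ((w : H) : G) = ((w : H) : G) * x := hcomm x hx _ hw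
        rw [← he]
        calc ι a * x * ((w : H) : G) * (ι a * x)⁻¹
            = ι a * (x * ((w : H) : G) * x⁻¹) * (ι a)⁻¹ := by group
          _ = _ := by rw [hxw, mul_inv_cancel_right]
      have : VH.Normal := Subgroup.Normal.subgroupOf hV H
      have hcop : Nat.Coprime VH.index (orderOf (linFun θH)) := by
        rw [orderOf_linFun]
        have h1 : VH.index ∣ 2 ^ j := by
          rw [← hj]
          show V.relIndex (ι.range ⊔ V) ∣ _
          rw [Subgroup.relIndex_sup_right]
          exact (Subgroup.relIndex_dvd_card V ι.range).trans (Subgroup.card_range_dvd ι)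
        have h2 : orderOf θH ∣ Nat.card V := orderOf_dvd_of_pow_eq_one (MonoidHom.ext fun w => by
          rw [MonoidHom.pow_apply, MonoidHom.one_apply]
          show θ _ ^ _ = 1
          rw [← map_pow, pow_card_eq_one', map_one])
        exact Nat.Coprime.coprime_dvd_left h1 (Nat.Coprime.coprime_dvd_right h2
          (Nat.Coprime.pow_left j (Nat.coprime_two_left.mpr hodd)))
      obtain ⟨F, ⟨hF, -⟩, -⟩ := canonical_linear_extension VH (isCharacter_linFun θH) hinvH hcop
      have := Fintype.ofFinite H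
      -- induce: some constituent has odd degree and is nontrivial on `V`
      obtain ⟨m, hm, hmi⟩ := char_decomp (isCharacter_indFun H (isCharacter_linFun F).1)
      have hidx : Odd H.index := hι.odd_index.of_dvd_nat (Subgroup.index_dvd_of_le hRH)
      obtain ⟨χ, hχm, hχd⟩ : ∃ χ : Cfsg.IrrCharacter G, m χ ≠ 0 ∧ OddDeg (χ : G → ℂ) := by
        choose d _ hdd using fun ψ : Cfsg.IrrCharacter G => exists_degree_pos ψ.2
        have hsum : H.index = ∑ ψ, m ψ * d ψ := by
          have h1 := congrFun hm 1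
          rw [indFun_one, (isCharacter_linFun F).2, mul_one] at h1
          simp only [Finset.sum_apply, Pi.smul_apply, smul_eq_mul, hdd] at h1
          exact_mod_cast h1
        by_contra hcon
        push Not at hcon
        refine Nat.not_even_iff_odd.mpr hidx ?_
        rw [hsum]
        refine Finset.even_sum _ fun ψ _ => ?_
        by_cases h0 : m ψ = 0
        · simp [h0]
        · refine Nat.even_mul.mpr (Or.inr (Nat.not_odd_iff_even.mp fun ho => hcon ψ h0 ⟨d ψ, ho, hdd ψ⟩))
      have hRO : RO (χ : G → ℂ) := ⟨χ.2, hreal _ χ.2 hχd, hχd⟩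
      have htriv := real_trivial hcomm hodd hRO
      have h0 : Cfsg.classInner (fun h : H => (χ : G → ℂ) h) (linFun F) ≠ 0 := by
        rw [← frobenius_reciprocity' H (linFun F) (isClassFunction_of_isIrr χ.2),
          ← classInner_conj_symm, ne_eq, map_eq_zero, hmi, Nat.cast_eq_zero]
        exact hχm
      have h1 := inner_comp_ne_zero (isCharacter_res H (isCharacter_of_isIrr χ.2))
        (Subgroup.inclusion hVH) (isCharacter_linFun θ).1
        ⟨linFun F, isCharacter_linFun' F⟩ h0 (by
          rw [show (linFun F ∘ Subgroup.inclusion hVH) = linFun θ from funext fun w =>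
            hF ⟨Subgroup.inclusion hVH w, w.2⟩, classInner_irr_self (isCharacter_linFun' θ)]
          exact one_ne_zero)
      have hθ1 : linFun θ = fun _ => 1 := by
        by_contra hne'
        refine h1 ?_
        rw [show (fun h : H => (χ : G → ℂ) h) ∘ Subgroup.inclusion hVH =
          (χ : G → ℂ) 1 • (fun _ : V => (1 : ℂ)) from funext fun w => by
            rw [Pi.smul_apply, smul_eq_mul, mul_one]; exact htriv w w.2,
          classInner_smul_left, classInner_irr_ne isIrrCharacter_one (isCharacter_linFun' θ)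
            (fun h => hne' h.symm), mul_zero]
      exact hf (Units.ext (congrFun hθ1 ⟨v, hv⟩))
    obtain ⟨a, ha⟩ := hself (QuotientGroup.mk' V g) fun a => by
      obtain ⟨b, hb⟩ := hg a
      exact ⟨b, by rw [MonoidHom.comp_apply, MonoidHom.comp_apply, ← map_inv, ← map_mul,
        ← map_mul, hb]⟩
    have hw : g * (ι a)⁻¹ ∈ V := by
      rw [← QuotientGroup.eq_one_iff (N := V), ← QuotientGroup.mk'_apply, map_mul, map_inv, ← ha,
        MonoidHom.comp_apply, mul_inv_cancel]
    have hw1 : g * (ι a)⁻¹ = 1 := by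
      refine hfix _ hw fun c => ?_
      obtain ⟨b, hb⟩ := hg (a⁻¹ * c * a)
      have h1 : g * (ι a)⁻¹ * ι c * (g * (ι a)⁻¹)⁻¹ = ι b := by
        rw [← hb]; simp only [map_mul, map_inv]; group
      have h2 : ι b * (ι c)⁻¹ ∈ V := by
        rw [← h1]
        have := mul_mem hw (hV.conj_mem _ (inv_mem hw) (ι c))
        simpa [mul_assoc] using this
      have h3 : ι b = ι c := by
        have := hι.eq_one_of_mem hodd (a := b * c⁻¹) (by rwa [map_mul, map_inv])
        rw [mul_inv_eq_one.mp this]
      rw [h3] at h1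
      rw [mul_inv_eq_iff_eq_mul] at h1 ⊢
      exact h1.symm
    rw [mul_inv_eq_one.mp hw1]
    exact ⟨a, rfl⟩

end CfsgLib.RealOdd
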