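import Cfsg.Agent.Lib.Char.Ito
import Cfsg.Agent.Lib.Char.EqualCentralizers
import Cfsg.Agent.Lib.Char.Extension
import Cfsg.Agent.Lib.CharNormal.Gallagher
import Mathlib.GroupTheory.Transfer

/-!
# Real characters of odd degree and their linear constituents on a Sylow 2-subgroup

The Sylow subgroup enters as an injective homomorphism `ι : A →* G` from a `2`-group with
range of odd index (`SylEmb`).

* `exists_con`, `exists_con_real`: odd degree forces a (real) linear constituent on `A`;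
* `exists_real_transfer`: extension of an invariant `±1`-valued character by the transfer;
* `clifford_unique`: the Clifford correspondent is the only constituent over `θ`.
-/

set_option autoImplicit false

namespace CfsgLib.RealOdd

open CfsgLib.Char CfsgLib.Char.EqualCentralizers CfsgLib.CharNormal
open scoped ComplexConjugate

variable {G : Type*} [Group G]

/-- All values are real. -/
def RealVal (χ : G → ℂ) : Prop := ∀ g, conj (χ g) = χ g

/-- The degree is an odd natural number. -/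
def OddDeg (χ : G → ℂ) : Prop := ∃ n : ℕ, Odd n ∧ χ 1 = n

/-- An irreducible real character of odd degree. -/
def RO (χ : G → ℂ) : Prop := Cfsg.IsIrrCharacter G χ ∧ RealVal χ ∧ OddDeg χ

variable {A : Type*} [Group A]

/-- A Sylow 2-subgroup given by an embedding. -/
structure SylEmb (ι : A →* G) : Prop where
  inj : Function.Injective ι
  pgroup : IsPGroup 2 A
  odd_index : Odd ι.range.index

/-- The linear character `l` is a constituent of `χ ∘ ι`. -/
def Con [Fintype A] (ι : A →* G) (χ : G → ℂ) (l : A →* ℂˣ) : Prop :=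
  Cfsg.classInner (χ ∘ ι) (linFun l) ≠ 0

/-- Conjugate linear characters of the embedded group. -/
def NConj (ι : A →* G) (l l' : A →* ℂˣ) : Prop :=
  ∃ g : G, ∀ a, ∃ b, g * ι a * g⁻¹ = ι b ∧ l' a = l b

theorem isCharacter_linFun' (l : A →* ℂˣ) : Cfsg.IsIrrCharacter A (linFun l) :=
  isIrrCharacter_units_hom l

theorem conj_linFun [Finite A] (l : A →* ℂˣ) (a : A) : conj (linFun l a) = linFun l a⁻¹ :=
  (char_inv (isCharacter_linFun l).1 a).symm

theorem realVal_linFun [Finite A] {l : A →* ℂˣ} (h : l ^ 2 = 1) : RealVal (linFun l) := by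
  intro a
  rw [conj_linFun, linFun_apply, linFun_apply, map_inv]
  congr 1
  refine inv_eq_of_mul_eq_one_right ?_
  rw [← sq, ← MonoidHom.pow_apply, h, MonoidHom.one_apply]

theorem sq_eq_one_of_realVal [Finite A] {l : A →* ℂˣ} (h : RealVal (linFun l)) : l ^ 2 = 1 := by
  refine MonoidHom.ext fun a => ?_
  have h1 := h a
  rw [conj_linFun, linFun_apply, linFun_apply, map_inv] at h1
  rw [MonoidHom.pow_apply, MonoidHom.one_apply, sq]
  conv_lhs => arg 1; rw [← Units.ext h1]
  exact inv_mul_cancel _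

theorem isIrr_conj [Finite G] {χ : G → ℂ} (hχ : Cfsg.IsIrrCharacter G χ) :
    Cfsg.IsIrrCharacter G (fun g => conj (χ g)) := by
  have := Fintype.ofFinite G
  refine irr_of_norm_one (isCharacter_conj (isCharacter_of_isIrr hχ)) ?_
  have h : Cfsg.classInner (fun g => conj (χ g)) (fun g => conj (χ g)) =
      conj (Cfsg.classInner χ χ) := by
    simp only [classInner_def, map_mul, map_inv₀, map_natCast, map_sum]
  rw [h, classInner_irr_self hχ, map_one]

theorem classInner_conj_conj [Fintype G] (φ ψ : G → ℂ) :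
    Cfsg.classInner (fun g => conj (φ g)) (fun g => conj (ψ g)) =
      conj (Cfsg.classInner φ ψ) := by
  simp only [classInner_def, map_mul, map_inv₀, map_natCast, map_sum]

theorem classInner_conj_of_real [Fintype G] {φ : G → ℂ} (hφ : RealVal φ) (ψ : G → ℂ) :
    Cfsg.classInner φ (fun g => conj (ψ g)) = conj (Cfsg.classInner φ ψ) := by
  rw [← classInner_conj_conj, show (fun g => conj (φ g)) = φ from funext hφ]

variable [Fintype A]

/-- A conjugate of a constituent is a constituent. -/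
theorem Con.conj {ι : A →* G} {χ : G → ℂ} (hι : Function.Injective ι)
    (hχ : Cfsg.IsClassFunction G χ) {l l' : A →* ℂˣ} (hn : NConj ι l l') (h : Con ι χ l) :
    Con ι χ l' := by
  obtain ⟨g, hg⟩ := hn
  choose φ hφ hl using hg
  have hinj : Function.Injective φ := fun a b e => hι (mul_left_cancel (mul_right_cancel
    ((hφ a).trans (e ▸ (hφ b).symm))))
  intro h'
  refine h ?_
  rw [← h', classInner_def, classInner_def]
  congr 1
  refine (Fintype.sum_bijective φ (Finite.injective_iff_bijective.mp hinj) _ _ fun a => ?_).symm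
  simp only [Function.comp_apply, linFun_apply, hl a, ← hφ a, hχ (ι a) g]

/-- A character of odd degree of a 2-group has a linear constituent of odd multiplicity. -/
theorem exists_linear_of_odd (hA : IsPGroup 2 A) {φ : A → ℂ} (hφ : Cfsg.IsCharacter A φ)
    (hd : OddDeg φ) :
    ∃ l : A →* ℂˣ, Cfsg.classInner φ (linFun l) ≠ 0 ∧
      (RealVal φ → ∃ l' : A →* ℂˣ, l' ^ 2 = 1 ∧ Cfsg.classInner φ (linFun l') ≠ 0) := by
  classical
  obtain ⟨m, hm, hmi⟩ := char_decomp hφ
  choose d hd0 hdd using fun ψ : Cfsg.IrrCharacter A => exists_degree_pos ψ.2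
  obtain ⟨n, hn, hn1⟩ := hd
  have hsum : n = ∑ ψ, m ψ * d ψ := by
    have h1 := congrFun hm 1
    simp only [Finset.sum_apply, Pi.smul_apply, smul_eq_mul, hdd, hn1] at h1
    exact_mod_cast h1
  have hsum2 : (∑ ψ, ((m ψ * d ψ : ℕ) : ZMod 2)) = 1 := by
    rw [← Nat.cast_sum, ← hsum]
    exact ZMod.natCast_eq_one_iff_odd.mpr hn
  have hlin : ∀ ψ : Cfsg.IrrCharacter A, ((m ψ * d ψ : ℕ) : ZMod 2) ≠ 0 →
      ∃ l : A →* ℂˣ, linFun l = (ψ : A → ℂ) ∧ Cfsg.classInner φ (linFun l) ≠ 0 := by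
    intro ψ hψ
    have hodd : Odd (m ψ * d ψ) := by
      rw [← Nat.not_even_iff_odd, even_iff_two_dvd, ← ZMod.natCast_eq_zero_iff]
      exact hψ
    obtain ⟨hm', hd'⟩ := Nat.odd_mul.mp hodd
    obtain ⟨k, hk⟩ := IsPGroup.iff_card.mp hA
    obtain ⟨i, -, hi⟩ := (Nat.dvd_prime_pow Nat.prime_two).mp
      (hk ▸ degree_dvd_card ψ.2 (hdd ψ))
    have hd1 : d ψ = 1 := by
      rcases Nat.eq_zero_or_pos i with rfl | hi0
      · simpa using hi
      · exact absurd (Nat.even_pow.mpr ⟨even_two, hi0.ne'⟩) (hi ▸ Nat.not_even_iff_odd.mpr hd')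
    obtain ⟨l, hl⟩ := exists_linHom (isCharacter_of_isIrr ψ.2)
      (by rw [hdd, hd1, Nat.cast_one])
    refine ⟨l, hl, ?_⟩
    rw [hl, hmi ψ, Nat.cast_ne_zero]
    exact hm'.pos.ne'
  obtain ⟨ψ, -, hψ⟩ := Finset.exists_ne_zero_of_sum_ne_zero
    (hsum2.symm ▸ one_ne_zero : (∑ ψ, ((m ψ * d ψ : ℕ) : ZMod 2)) ≠ 0)
  obtain ⟨l, -, hl⟩ := hlin ψ hψ
  refine ⟨l, hl, fun hr => ?_⟩
  let c : Cfsg.IrrCharacter A → Cfsg.IrrCharacter A := fun ψ => ⟨_, isIrr_conj ψ.2⟩
  have hcc : ∀ ψ, c (c ψ) = ψ := fun ψ => Subtype.ext (funext fun a => Complex.conj_conj _)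
  have hcm : ∀ ψ, m (c ψ) = m ψ := fun ψ => by
    have h := classInner_conj_of_real hr (ψ : A → ℂ)
    rw [hmi ψ, map_natCast] at h
    exact_mod_cast (hmi (c ψ)).symm.trans h
  have hcd : ∀ ψ, d (c ψ) = d ψ := fun ψ => by
    have h : conj ((ψ : A → ℂ) 1) = (d (c ψ) : ℂ) := hdd (c ψ)
    rw [hdd ψ, map_natCast] at h
    exact_mod_cast h.symm
  have hfix : (∑ ψ ∈ Finset.univ.filter (fun ψ => ¬ c ψ = ψ),
      ((m ψ * d ψ : ℕ) : ZMod 2)) = 0 := by
    refine Finset.sum_involution (fun ψ _ => c ψ) (fun ψ _ => ?_) (fun ψ hψ _ => ?_)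
      (fun ψ hψ => ?_) (fun ψ _ => hcc ψ)
    · rw [hcm, hcd]; exact CharTwo.add_self_eq_zero _
    · exact (Finset.mem_filter.mp hψ).2
    · refine Finset.mem_filter.mpr ⟨Finset.mem_univ _, ?_⟩
      rw [hcc]
      exact fun h => (Finset.mem_filter.mp hψ).2 h.symm
  rw [← Finset.sum_filter_add_sum_filter_not Finset.univ (fun ψ => c ψ = ψ), hfix, add_zero]
    at hsum2
  obtain ⟨ψ', hψ', hψ'0⟩ := Finset.exists_ne_zero_of_sum_ne_zero
    (hsum2.symm ▸ one_ne_zero :
      (∑ ψ ∈ Finset.univ.filter (fun ψ => c ψ = ψ), ((m ψ * d ψ : ℕ) : ZMod 2)) ≠ 0)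
  obtain ⟨l', hl', hl'0⟩ := hlin ψ' hψ'0
  refine ⟨l', sq_eq_one_of_realVal fun a => ?_, hl'0⟩
  rw [hl']
  exact congrFun (congrArg Subtype.val (Finset.mem_filter.mp hψ').2) a

variable {ι : A →* G}

theorem exists_con (hA : IsPGroup 2 A) {χ : G → ℂ} (hχ : Cfsg.IsIrrCharacter G χ)
    (hd : OddDeg χ) : ∃ l : A →* ℂˣ, Con ι χ l := by
  obtain ⟨l, hl, -⟩ := exists_linear_of_odd hA
    (isCharacter_comp (isCharacter_of_isIrr hχ) ι) (by simpa [OddDeg] using hd)
  exact ⟨l, hl⟩

theorem exists_con_real (hA : IsPGroup 2 A) {χ : G → ℂ} (hχ : RO χ) :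
    ∃ l : A →* ℂˣ, l ^ 2 = 1 ∧ Con ι χ l := by
  obtain ⟨-, -, h⟩ := exists_linear_of_odd hA
    (isCharacter_comp (isCharacter_of_isIrr hχ.1) ι) (by simpa [OddDeg] using hχ.2.2)
  exact h fun a => hχ.2.1 (ι a)

variable [Finite G]

/-- A normal 2-subgroup lies in every embedded Sylow subgroup. -/
theorem SylEmb.le_range (hι : SylEmb ι) {V : Subgroup G} [V.Normal] (hV : IsPGroup 2 V) :
    V ≤ ι.range := by
  have hR : IsPGroup 2 ι.range := hι.pgroup.of_surjective ι.rangeRestrict ι.rangeRestrict_surjective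
  have hH : IsPGroup 2 (ι.range ⊔ V : Subgroup G) := hR.to_sup_of_normal_right hV
  obtain ⟨k, hk⟩ := IsPGroup.iff_card.mp hH
  have h1 : ι.range.relIndex (ι.range ⊔ V) ∣ 2 ^ k := hk ▸ Subgroup.relIndex_dvd_card ..
  have h2 : ι.range.relIndex (ι.range ⊔ V) ∣ ι.range.index :=
    Subgroup.relIndex_dvd_index_of_le le_sup_left
  have h3 := Nat.eq_one_of_dvd_coprimes
    (Nat.Coprime.pow_left k ((Nat.coprime_two_left).mpr hι.odd_index)) h1 h2
  exact le_sup_right.trans (Subgroup.relIndex_eq_one.mp h3)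

/-- Real extensions by the transfer. -/
theorem exists_real_transfer (hι : SylEmb ι) {V : Subgroup G} [hV : V.Normal]
    (hVR : V ≤ ι.range) {l : A →* ℂˣ}
    (hinv : ∀ (g : G) (a b : A), ι a ∈ V → g⁻¹ * ι a * g = ι b → l b = l a)
    (hord : ∀ a : A, ι a ∈ V → l a ^ 2 = 1) :
    ∃ μ : G →* ℂˣ, (∀ a, ι a ∈ V → μ (ι a) = l a) ∧ (l ^ 2 = 1 → μ ^ 2 = 1) := by
  classical
  let e : A ≃* ι.range := MonoidHom.ofInjective hι.inj
  let f : ι.range →* ℂˣ := l.comp e.symm.toMonoidHom
  have hf : ∀ (r : ι.range), ∃ a, ι a = r ∧ f r = l a := fun r =>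
    ⟨e.symm r, congrArg Subtype.val (e.apply_symm_apply r), rfl⟩
  refine ⟨MonoidHom.transfer f, fun a ha => ?_, fun h2 => MonoidHom.ext fun g => ?_⟩
  · let T : ι.range.LeftTransversal := default
    have hstab : ∀ q : G ⧸ ι.range, (ι a)⁻¹ • q = q := by
      intro q
      induction q using QuotientGroup.induction_on with
      | H x =>
        refine QuotientGroup.eq.mpr (hVR ?_)
        have := hV.conj_mem _ ha x⁻¹
        simp only [smul_eq_mul, mul_inv_rev, inv_inv]
        simpa [mul_assoc] using this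
    letI := ι.range.fintypeQuotientOfFiniteIndex
    rw [MonoidHom.transfer_def f T, Subgroup.leftTransversals.diff]
    rw [Finset.prod_congr rfl fun q _ => ?_, Finset.prod_const, Finset.card_univ,
      ← Nat.card_eq_fintype_card, ← Subgroup.index]
    · obtain ⟨j, hj⟩ := hι.odd_index
      rw [hj, pow_succ, pow_mul, hord a ha, one_pow, one_mul]
    · obtain ⟨b, hb, hfb⟩ := hf ⟨((T.2.leftQuotientEquiv q : G))⁻¹ *
        ((ι a • T).2.leftQuotientEquiv q : G), QuotientGroup.leftRel_apply.mp <|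
          Quotient.exact' ((T.2.leftQuotientEquiv.symm_apply_apply q).trans
            ((ι a • T).2.leftQuotientEquiv.symm_apply_apply q).symm)⟩
      rw [hfb]
      refine hinv (T.2.leftQuotientEquiv q : G) a b ha ?_
      rw [hb]
      simp only [Subgroup.smul_apply_eq_smul_apply_inv_smul, hstab q, smul_eq_mul, mul_assoc]
  · have hf2 : f ^ 2 = 1 := MonoidHom.ext fun r => by
      show l (e.symm r) ^ 2 = 1
      rw [← MonoidHom.pow_apply, h2]; rfl
    letI := ι.range.fintypeQuotientOfFiniteIndex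
    rw [MonoidHom.pow_apply, MonoidHom.one_apply,
      MonoidHom.transfer_def f default, Subgroup.leftTransversals.diff, ← Finset.prod_pow]
    exact Finset.prod_eq_one fun q _ => by rw [← MonoidHom.pow_apply, hf2]; rfl

section clifford

variable [Fintype G] (V : Subgroup G) [V.Normal] [Fintype V] {θ : V → ℂ}
  (hθ : Cfsg.IsIrrCharacter V θ) (T : Subgroup G) [Fintype T]
  (hT : ∀ g : G, g ∈ T ↔ conjFun V g θ = θ) (hVT : V ≤ T)

omit [Finite G] in
include hθ hT hVT in
/-- The Clifford correspondent is the unique constituent over `θ`. -/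
theorem clifford_unique {χ : G → ℂ} (hχ : Cfsg.IsIrrCharacter G χ)
    (h0 : Cfsg.classInner (fun n : V => χ n) θ ≠ 0) :
    ∃ η : T → ℂ, Cfsg.IsIrrCharacter T η ∧ Cfsg.indFun T η = χ ∧
      Cfsg.classInner (fun t : T => χ t) η ≠ 0 ∧
      Cfsg.classInner (fun n : V => η ⟨n, hVT n.2⟩) θ ≠ 0 ∧
      ∀ η' : T → ℂ, Cfsg.IsIrrCharacter T η' → Cfsg.classInner (fun t : T => χ t) η' ≠ 0 →
        Cfsg.classInner (fun n : V => η' ⟨n, hVT n.2⟩) θ ≠ 0 → η' = η := by
  classical
  obtain ⟨η, hη, hind, heq⟩ := clifford_correspondence V hθ T hT hVT hχ h0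
  have hres1 : Cfsg.classInner (fun t : T => χ t) η = 1 := by
    rw [← frobenius_reciprocity' T η (isClassFunction_of_isIrr hχ), hind, classInner_irr_self hχ]
  refine ⟨η, hη, hind, hres1 ▸ one_ne_zero, heq.symm ▸ h0, fun η' hη' h1 h2 => ?_⟩
  by_contra hne
  obtain ⟨e, he⟩ := classInner_char_nat (isCharacter_res V (isCharacter_of_isIrr hχ))
    (isCharacter_of_isIrr hθ)
  choose m hm using fun b : Cfsg.IrrCharacter T =>
    classInner_char_nat (isCharacter_res T (isCharacter_of_isIrr hχ)) (isCharacter_of_isIrr b.2)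
  choose k hk using fun b : Cfsg.IrrCharacter T =>
    classInner_char_nat (isCharacter_comp (isCharacter_of_isIrr b.2) (Subgroup.inclusion hVT))
      (isCharacter_of_isIrr hθ)
  have hsum := inner_comp_eq_sum (isCharacter_res T (isCharacter_of_isIrr hχ))
    (Subgroup.inclusion hVT) θ
  simp only [hm, hk, ← Nat.cast_mul, ← Nat.cast_sum] at hsum
  have hE : e = ∑ b, m b * k b := by exact_mod_cast he.symm.trans hsum
  have hkη : k ⟨η, hη⟩ = e := by exact_mod_cast (hk ⟨η, hη⟩).symm.trans (heq.trans he)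
  have hmη : m ⟨η, hη⟩ = 1 := by exact_mod_cast (hm ⟨η, hη⟩).symm.trans hres1
  have hm' : m ⟨η', hη'⟩ ≠ 0 := fun h => h1 (by rw [hm ⟨η', hη'⟩, h, Nat.cast_zero])
  have hk' : k ⟨η', hη'⟩ ≠ 0 := fun h => h2 ((hk ⟨η', hη'⟩).trans (by rw [h, Nat.cast_zero]))
  have hle := Finset.sum_le_sum_of_subset (f := fun b => m b * k b)
    (Finset.subset_univ ({⟨η, hη⟩, ⟨η', hη'⟩} : Finset (Cfsg.IrrCharacter T)))
  rw [← hE, Finset.sum_pair (fun h => hne (congrArg Subtype.val h).symm), hmη, hkη, one_mul] at hle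
  have := Nat.mul_pos (Nat.pos_of_ne_zero hm') (Nat.pos_of_ne_zero hk')
  omega

end clifford

end CfsgLib.RealOdd
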