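import Cfsg.Agent.Lib.CharNormal.RealOdd.Basic

/-!
# A normal elementary abelian 2-subgroup `V`

For a linear character `l` of the Sylow subgroup the stabilizer of `l|V` contains the Sylow
subgroup, `l|V` extends to it by the transfer, and characters over it descend to the quotient by
`V`.
-/

set_option autoImplicit false

namespace CfsgLib.RealOdd

open CfsgLib.Char CfsgLib.Char.EqualCentralizers CfsgLib.CharNormal
open scoped ComplexConjugate

variable {G : Type*} [Group G] {A : Type*} [Group A] {ι : A →* G} {V : Subgroup G}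

/-- Constituents on `A` restrict to constituents on subgroups. -/
theorem Con.comp [Fintype A] {B : Type*} [Group B] [Fintype B] {χ : G → ℂ}
    (hχ : Cfsg.IsCharacter G χ) {l : A →* ℂˣ} (h : Con ι χ l) (j : B →* A) :
    Con (ι.comp j) χ (l.comp j) :=
  inner_comp_ne_zero (isCharacter_comp hχ ι) j (isCharacter_linFun (l.comp j)).1
    ⟨linFun l, isIrrCharacter_units_hom l⟩ h (by
      show Cfsg.classInner (linFun (l.comp j)) (linFun (l.comp j)) ≠ 0
      rw [classInner_irr_self (isCharacter_linFun' (l.comp j))]; exact one_ne_zero)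

/-- The embedding of `V` into `A`. -/
noncomputable def jV (hι : SylEmb ι) (hVR : V ≤ ι.range) : V →* A :=
  (MonoidHom.ofInjective hι.inj).symm.toMonoidHom.comp (Subgroup.inclusion hVR)

theorem apply_jV (hι : SylEmb ι) (hVR : V ≤ ι.range) (v : V) : ι (jV hι hVR v) = v :=
  congrArg Subtype.val ((MonoidHom.ofInjective hι.inj).apply_symm_apply (Subgroup.inclusion hVR v))

theorem jV_apply (hι : SylEmb ι) (hVR : V ≤ ι.range) {a : A} {v : V} (h : ι a = v) :
    jV hι hVR v = a := hι.inj ((apply_jV hι hVR v).trans h.symm)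

theorem comp_jV (hι : SylEmb ι) (hVR : V ≤ ι.range) : ι.comp (jV hι hVR) = V.subtype :=
  MonoidHom.ext (apply_jV hι hVR)

/-- The restriction of `l` to `V`. -/
noncomputable def thetaHom (hι : SylEmb ι) (hVR : V ≤ ι.range) (l : A →* ℂˣ) : V →* ℂˣ :=
  l.comp (jV hι hVR)

theorem Con.over [Fintype A] [Fintype V] (hι : SylEmb ι) (hVR : V ≤ ι.range) {χ : G → ℂ}
    (hχ : Cfsg.IsCharacter G χ) {l : A →* ℂˣ} (h : Con ι χ l) :
    Cfsg.classInner (fun v : V => χ v) (linFun (thetaHom hι hVR l)) ≠ 0 := by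
  have h' := h.comp hχ (jV hι hVR)
  rw [Con, comp_jV] at h'
  exact h'

variable [hV : V.Normal] (hι : SylEmb ι) (hVR : V ≤ ι.range) (l : A →* ℂˣ)

/-- The stabilizer of `l|V`. -/
noncomputable def stab : Subgroup G := inertia V (linFun (thetaHom hι hVR l))

theorem mem_stab (g : G) :
    g ∈ stab hι hVR l ↔ conjFun V g (linFun (thetaHom hι hVR l)) = linFun (thetaHom hι hVR l) :=
  mem_inertia V

theorem conjFun_theta (a : A) :
    conjFun V (ι a) (linFun (thetaHom hι hVR l)) = linFun (thetaHom hι hVR l) := by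
  funext v
  rw [conjFun_apply, linFun_apply, linFun_apply, thetaHom, MonoidHom.comp_apply,
    MonoidHom.comp_apply, jV_apply hι hVR (a := a * jV hι hVR v * a⁻¹)
      (by rw [map_mul, map_mul, map_inv, apply_jV])]
  rw [map_mul, map_mul, map_inv, mul_comm (l a), mul_inv_cancel_right]

theorem le_stab : V ≤ stab hι hVR l :=
  le_inertia V (isClassFunction_of_isIrr (isIrrCharacter_units_hom _))

/-- The embedding into the stabilizer. -/
noncomputable def iotaT : A →* stab hι hVR l :=
  ι.codRestrict (stab hι hVR l) fun a => (mem_stab hι hVR l _).mpr (conjFun_theta hι hVR l a)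

theorem coe_iotaT (a : A) : ((iotaT hι hVR l a : stab hι hVR l) : G) = ι a := rfl

/-- `V` inside the stabilizer. -/
noncomputable def vT : Subgroup (stab hι hVR l) := V.subgroupOf (stab hι hVR l)

instance vT_normal : (vT hι hVR l).Normal := Subgroup.Normal.subgroupOf hV _

/-- `V` inside `A`. -/
noncomputable def kA : Subgroup A := (vT hι hVR l).comap (iotaT hι hVR l)

instance kA_normal : (kA hι hVR l).Normal := Subgroup.Normal.comap (vT_normal hι hVR l) _

theorem mem_kA (a : A) : a ∈ kA hι hVR l ↔ ι a ∈ V := Iff.rfl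

/-- The embedded Sylow subgroup of the quotient of the stabilizer. -/
noncomputable def iotaQ : A ⧸ kA hι hVR l →* stab hι hVR l ⧸ vT hι hVR l :=
  QuotientGroup.map _ _ (iotaT hι hVR l) le_rfl

theorem iotaQ_mk (a : A) :
    iotaQ hι hVR l (a : A ⧸ kA hι hVR l) = (iotaT hι hVR l a : stab hι hVR l ⧸ vT hι hVR l) :=
  rfl

theorem iotaT_syl [Finite G] : SylEmb (iotaT hι hVR l) where
  inj := fun a b h => hι.inj (congrArg Subtype.val h)
  pgroup := hι.pgroup
  odd_index := by
    have h : (iotaT hι hVR l).range = ι.range.subgroupOf (stab hι hVR l) := by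
      ext t
      exact ⟨fun ⟨a, ha⟩ => ⟨a, congrArg Subtype.val ha⟩, fun ⟨a, ha⟩ => ⟨a, Subtype.ext ha⟩⟩
    rw [h]
    exact hι.odd_index.of_dvd_nat (Subgroup.relIndex_dvd_index_of_le (H := ι.range) (by
      rintro _ ⟨a, rfl⟩
      exact (iotaT hι hVR l a).2))

theorem stab_index_odd [Finite G] : Odd (stab hι hVR l).index := by
  refine hι.odd_index.of_dvd_nat (Subgroup.index_dvd_of_le ?_)
  rintro _ ⟨a, rfl⟩
  exact (iotaT hι hVR l a).2

theorem iotaQ_syl [Finite G] : SylEmb (iotaQ hι hVR l) where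
  inj := (injective_iff_map_eq_one _).mpr fun q hq => by
    induction q using QuotientGroup.induction_on with
    | H a => exact (QuotientGroup.eq_one_iff _).mpr ((QuotientGroup.eq_one_iff _).mp hq : _)
  pgroup := hι.pgroup.to_quotient _
  odd_index := by
    refine (iotaT_syl hι hVR l).odd_index.of_dvd_nat ?_
    have h : (iotaQ hι hVR l).range =
        (iotaT hι hVR l).range.map (QuotientGroup.mk' (vT hι hVR l)) := by
      ext x
      constructor
      · rintro ⟨q, rfl⟩
        induction q using QuotientGroup.induction_on with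
        | H a => exact ⟨_, ⟨a, rfl⟩, rfl⟩
      · rintro ⟨_, ⟨a, rfl⟩, rfl⟩
        exact ⟨(a : A ⧸ kA hι hVR l), rfl⟩
    rw [h]
    exact (iotaT hι hVR l).range.index_map_dvd (QuotientGroup.mk'_surjective _)

theorem card_stab_quot_lt [Finite G] (hne : V ≠ ⊥) :
    Nat.card (stab hι hVR l ⧸ vT hι hVR l) < Nat.card G := by
  have h1 : 1 < Nat.card (vT hι hVR l) := by
    rw [vT, Nat.card_congr (Subgroup.subgroupOfEquivOfLe (le_stab hι hVR l)).toEquiv]
    exact (Subgroup.one_lt_card_iff_ne_bot V).mpr hne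
  have h2 := Subgroup.card_eq_card_quotient_mul_card_subgroup (vT hι hVR l)
  have h3 : Nat.card (stab hι hVR l) ≤ Nat.card G := Subgroup.card_le_card_group _
  have h4 : 0 < Nat.card (stab hι hVR l ⧸ vT hι hVR l) := Nat.card_pos
  calc Nat.card (stab hι hVR l ⧸ vT hι hVR l)
      < Nat.card (stab hι hVR l ⧸ vT hι hVR l) * Nat.card (vT hι hVR l) :=
        lt_mul_of_one_lt_right h4 h1
    _ ≤ Nat.card G := h2 ▸ h3

variable (hexp : ∀ v ∈ V, v ^ 2 = 1)

include hexp in
theorem theta_sq : thetaHom hι hVR l ^ 2 = 1 := MonoidHom.ext fun v => by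
  rw [MonoidHom.pow_apply, ← map_pow, show v ^ 2 = 1 from Subtype.ext (by simpa using hexp v v.2),
    map_one, MonoidHom.one_apply]

include hexp in
theorem exists_mu [Finite G] :
    ∃ μ : stab hι hVR l →* ℂˣ, (∀ a, ι a ∈ V → μ (iotaT hι hVR l a) = l a) ∧
      (l ^ 2 = 1 → μ ^ 2 = 1) ∧
      ∀ v : V, μ ⟨v, le_stab hι hVR l v.2⟩ = thetaHom hι hVR l v := by
  have hle : vT hι hVR l ≤ (iotaT hι hVR l).range := fun t ht => by
    obtain ⟨a, ha⟩ := hVR ht
    exact ⟨a, Subtype.ext ha⟩
  have : Finite A := Finite.of_injective ι hι.inj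
  have := Fintype.ofFinite A
  obtain ⟨μ, hμ, hμ2⟩ := exists_real_transfer (iotaT_syl hι hVR l) hle
    (l := l) (fun t a b ha hab => by
      have h := congrFun ((mem_stab hι hVR l _).mp (t⁻¹).2) ⟨ι a, ha⟩
      rw [conjFun_apply, linFun_apply, linFun_apply, Units.val_inj, thetaHom,
        MonoidHom.comp_apply, MonoidHom.comp_apply] at h
      rw [jV_apply hι hVR (a := b) (by
          have h' := congrArg Subtype.val hab
          simpa [coe_iotaT] using h'.symm),
        jV_apply hι hVR (a := a) rfl] at h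
      exact h)
    (fun a ha => by
      have h := DFunLike.congr_fun (theta_sq hι hVR l hexp) ⟨ι a, ha⟩
      rwa [MonoidHom.pow_apply, thetaHom, MonoidHom.comp_apply, jV_apply hι hVR (a := a) rfl,
        MonoidHom.one_apply] at h)
  refine ⟨μ, hμ, hμ2, fun v => ?_⟩
  obtain ⟨a, ha⟩ := hVR v.2
  rw [thetaHom, MonoidHom.comp_apply, jV_apply hι hVR ha, ← hμ a (show ι a ∈ V by rw [ha]; exact v.2)]
  exact congrArg μ (Subtype.ext ha.symm)

variable [Fintype G] [Fintype A] [Fintype V] [Fintype (stab hι hVR l)]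
  [Fintype (stab hι hVR l ⧸ vT hι hVR l)] [Fintype (A ⧸ kA hι hVR l)]

omit [Fintype G] in
/-- Constituents pass to the quotient. -/
theorem con_descend {μ : stab hι hVR l →* ℂˣ} (hμ2 : μ ^ 2 = 1) {η : stab hι hVR l → ℂ}
    {β : stab hι hVR l ⧸ vT hι hVR l → ℂ} (hβ : η * linFun μ = β ∘ QuotientGroup.mk)
    (l' : A →* ℂˣ) (q : A ⧸ kA hι hVR l →* ℂˣ)
    (hq : ∀ a : A, q a = l' a * μ (iotaT hι hVR l a)) :
    Con (iotaT hι hVR l) η l' ↔ Con (iotaQ hι hVR l) β q := by
  rw [Con, Con, ← classInner_comp_mk' (kA hι hVR l) (β ∘ iotaQ hι hVR l)]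
  refine (Iff.of_eq (congrArg (· ≠ 0) ?_))
  rw [classInner_def, classInner_def]
  congr 1
  refine Finset.sum_congr rfl fun a _ => ?_
  have h1 := congrFun hβ (iotaT hι hVR l a)
  simp only [Pi.mul_apply, Function.comp_apply, linFun_apply] at h1
  simp only [Function.comp_apply, iotaQ_mk, ← h1, linFun_apply, hq a, Units.val_mul, map_mul]
  have h2 : conj ((μ (iotaT hι hVR l a) : ℂˣ) : ℂ) = (μ (iotaT hι hVR l a) : ℂ) :=
    realVal_linFun hμ2 _
  have h3 : ((μ (iotaT hι hVR l a) : ℂˣ) : ℂ) * (μ (iotaT hι hVR l a) : ℂ) = 1 := by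
    rw [← Units.val_mul, ← sq, ← MonoidHom.pow_apply, hμ2, MonoidHom.one_apply, Units.val_one]
  rw [h2]
  linear_combination (-(η (iotaT hι hVR l a) * conj ((l' a : ℂˣ) : ℂ))) * h3

omit [Fintype G] in
/-- Real characters over `l|V` descend to the quotient. -/
theorem exists_descend {μ : stab hι hVR l →* ℂˣ} (hμ2 : μ ^ 2 = 1)
    (hμV : ∀ v : V, μ ⟨v, le_stab hι hVR l v.2⟩ = thetaHom hι hVR l v)
    {η : stab hι hVR l → ℂ} (hη : Cfsg.IsIrrCharacter (stab hι hVR l) η)
    (hov : Cfsg.classInner (fun v : V => η ⟨v, le_stab hι hVR l v.2⟩)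
      (linFun (thetaHom hι hVR l)) ≠ 0) :
    ∃ β, Cfsg.IsIrrCharacter (stab hι hVR l ⧸ vT hι hVR l) β ∧
      η * linFun μ = β ∘ QuotientGroup.mk ∧ (RealVal η → RealVal β) ∧ (OddDeg η → OddDeg β) := by
  have := Fintype.ofFinite (vT hι hVR l)
  have hirr : Cfsg.IsIrrCharacter _ (η * linFun μ) :=
    isIrr_mul_linear hη (isCharacter_linFun μ).1 (isCharacter_linFun μ).2
  have hone : Cfsg.classInner (fun n : vT hι hVR l => (η * linFun μ) n) (fun _ => (1 : ℂ)) ≠ 0 := by
    let e : V ≃* vT hι hVR l := (Subgroup.subgroupOfEquivOfLe (le_stab hι hVR l)).symm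
    rw [← classInner_comp_mulEquiv e]
    refine fun h => hov (Eq.trans ?_ h)
    rw [classInner_def, classInner_def]
    congr 1
    refine Finset.sum_congr rfl fun v _ => ?_
    show η ⟨v, _⟩ * conj (linFun (thetaHom hι hVR l) v) =
      η ⟨v, _⟩ * linFun μ ⟨v, le_stab hι hVR l v.2⟩ * conj (1 : ℂ)
    rw [map_one, mul_one, linFun_apply, linFun_apply, hμV]
    congr 1
    rw [← hμV]
    exact realVal_linFun hμ2 _
  obtain ⟨β, hβ, hβe⟩ := exists_irr_eq_comp_mk' (vT hι hVR l) hirr
    (res_eq_degree_of_constituent_one (vT hι hVR l) hirr hone)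
  refine ⟨β, hβ, hβe.symm, fun hr q => ?_, fun hd => ?_⟩
  · induction q using QuotientGroup.induction_on with
    | H t =>
      have h := congrFun hβe t
      simp only [Function.comp_apply] at h
      rw [h, Pi.mul_apply, map_mul, hr, realVal_linFun hμ2]
  · obtain ⟨n, hn, hn1⟩ := hd
    refine ⟨n, hn, ?_⟩
    have h := congrFun hβe 1
    rw [Function.comp_apply, QuotientGroup.mk_one, Pi.mul_apply, (isCharacter_linFun μ).2,
      mul_one, hn1] at h
    exact h

/-- The Clifford correspondent of a real odd character is real of odd degree. -/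
theorem exists_correspondent {χ : G → ℂ} (hχ : Cfsg.IsIrrCharacter G χ)
    (hd : OddDeg χ) (hθ2 : thetaHom hι hVR l ^ 2 = 1) (h : Con ι χ l) :
    ∃ η : stab hι hVR l → ℂ, Cfsg.IsIrrCharacter _ η ∧ Cfsg.indFun (stab hι hVR l) η = χ ∧
      OddDeg η ∧ (RealVal χ → RealVal η) ∧
      Cfsg.classInner (fun v : V => η ⟨v, le_stab hι hVR l v.2⟩)
        (linFun (thetaHom hι hVR l)) ≠ 0 ∧
      ∀ l' : A →* ℂˣ, thetaHom hι hVR l' = thetaHom hι hVR l → Con ι χ l' →
        Con (iotaT hι hVR l) η l' := by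
  have hov := h.over hι hVR (isCharacter_of_isIrr hχ)
  obtain ⟨η, hη, hind, hres, hηV, huniq⟩ := clifford_unique V (isCharacter_linFun' _)
    (stab hι hVR l) (mem_stab hι hVR l) (le_stab hι hVR l) hχ hov
  refine ⟨η, hη, hind, ?_, fun hr => ?_, hηV, fun l' hl' h' => ?_⟩
  · obtain ⟨n, hn, hn1⟩ := hd
    obtain ⟨m, hm⟩ := exists_degree (isCharacter_of_isIrr hη)
    have := congrFun hind 1
    rw [indFun_one, hm, hn1, ← Nat.cast_mul, Nat.cast_inj] at this
    exact ⟨m, (Nat.odd_mul.mp (this ▸ hn)).2, hm⟩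
  · have := huniq _ (isIrr_conj hη) (by
      rw [classInner_conj_of_real (fun t : stab hι hVR l => hr t), ne_eq, map_eq_zero]
      exact hres) (by
      rw [show linFun (thetaHom hι hVR l) =
          fun v => conj (linFun (thetaHom hι hVR l) v) from
        (funext (realVal_linFun hθ2)).symm, classInner_conj_conj, ne_eq, map_eq_zero]
      exact hηV)
    exact fun t => congrFun this t
  · obtain ⟨a, ha, ha'⟩ := exists_constituent_comp
      (isCharacter_res (stab hι hVR l) (isCharacter_of_isIrr hχ)) (iotaT hι hVR l)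
      (γ := linFun l') h'
    have hav : Cfsg.classInner (fun v : V => (a : stab hι hVR l → ℂ) ⟨v, le_stab hι hVR l v.2⟩)
        (linFun (thetaHom hι hVR l)) ≠ 0 := by
      have h1 : Con (iotaT hι hVR l) (a : stab hι hVR l → ℂ) l' := ha'
      have h2 := h1.comp (isCharacter_of_isIrr a.2) (jV hι hVR)
      rw [Con, show (iotaT hι hVR l).comp (jV hι hVR) = Subgroup.inclusion (le_stab hι hVR l) from
        MonoidHom.ext fun v => Subtype.ext (apply_jV hι hVR v)] at h2
      rw [← hl']
      exact h2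
    rw [← huniq _ a.2 ha hav]
    exact ha'

/-- Inducing a character over `l|V` from the stabilizer. -/
theorem exists_induced {η : stab hι hVR l → ℂ} (hη : Cfsg.IsIrrCharacter _ η)
    (hηV : Cfsg.classInner (fun v : V => η ⟨v, le_stab hι hVR l v.2⟩)
      (linFun (thetaHom hι hVR l)) ≠ 0) :
    ∃ χ : G → ℂ, Cfsg.IsIrrCharacter G χ ∧ Cfsg.indFun (stab hι hVR l) η = χ ∧
      (RealVal η → RealVal χ) ∧ (OddDeg η → OddDeg χ) ∧
      (∀ l' : A →* ℂˣ, Con (iotaT hι hVR l) η l' → Con ι χ l') ∧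
      (RealVal χ → RealVal (linFun (thetaHom hι hVR l)) → RealVal η) := by
  obtain ⟨χ, hχ, h0⟩ := exists_constituent (isCharacter_indFun (stab hι hVR l)
    (isCharacter_of_isIrr hη)) fun h => by
      have := congrFun h 1
      rw [indFun_one, Pi.zero_apply, mul_eq_zero] at this
      exact this.elim (fun e => Subgroup.index_ne_zero_of_finite (by exact_mod_cast e))
        (irr_one_ne_zero hη)
  rw [frobenius_reciprocity _ _ (isClassFunction_of_isIrr hχ), ← classInner_conj_symm,
    ne_eq, map_eq_zero] at h0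
  have hov : Cfsg.classInner (fun v : V => χ v) (linFun (thetaHom hι hVR l)) ≠ 0 :=
    inner_comp_ne_zero (isCharacter_res (stab hι hVR l) (isCharacter_of_isIrr hχ))
      (Subgroup.inclusion (le_stab hι hVR l)) (isCharacter_linFun _).1 ⟨η, hη⟩ h0 hηV
  obtain ⟨η₀, -, hind, -, -, huniq⟩ := clifford_unique V (isCharacter_linFun' _)
    (stab hι hVR l) (mem_stab hι hVR l) (le_stab hι hVR l) hχ hov
  obtain rfl := huniq η hη h0 hηV
  refine ⟨χ, hχ, hind, fun hr g => ?_, fun hd => ?_, fun l' hl' => ?_, fun hr hrθ t => ?_⟩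
  · rw [← hind, indFun_apply, map_mul, map_inv₀, map_natCast, map_sum]
    congr 1
    refine Finset.sum_congr rfl fun x _ => ?_
    by_cases hx : x⁻¹ * g * x ∈ stab hι hVR l
    · rw [extendByZero_of_mem _ hx]; exact hr _
    · rw [extendByZero_of_notMem _ hx, map_zero]
  · obtain ⟨n, hn, hn1⟩ := hd
    refine ⟨(stab hι hVR l).index * n, (stab_index_odd hι hVR l).mul hn, ?_⟩
    rw [← hind, indFun_one, hn1, Nat.cast_mul]
  · exact inner_comp_ne_zero (isCharacter_res (stab hι hVR l) (isCharacter_of_isIrr hχ))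
      (iotaT hι hVR l) (isCharacter_linFun l').1 ⟨η, hη⟩ h0 hl'
  · have := huniq _ (isIrr_conj hη) (by
      rw [classInner_conj_of_real (fun t : stab hι hVR l => hr t), ne_eq, map_eq_zero]
      exact h0) (by
      rw [show linFun (thetaHom hι hVR l) = fun v => conj (linFun (thetaHom hι hVR l) v) from
        (funext hrθ).symm, classInner_conj_conj, ne_eq, map_eq_zero]
      exact hηV)
    exact congrFun this t

end CfsgLib.RealOdd
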