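import Cfsg.Agent.Lib.CharNormal.RealOdd.OddCase
import Cfsg.Agent.Lib.CharNormal.RealOdd.TwoCase
import Cfsg.Agent.Lib.Solvable.MinimalNormal

/-!
# Gow's theorem for real characters of odd degree of solvable groups

Real linear characters of a Sylow 2-subgroup, up to conjugation in its normalizer, correspond to
the real irreducible characters of odd degree by constituency.
-/

set_option autoImplicit false

namespace CfsgLib.RealOdd

open CfsgLib.Char CfsgLib.Char.EqualCentralizers CfsgLib.CharNormal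
open scoped ComplexConjugate

universe u v

/-- A solvable nontrivial finite group has an abelian normal subgroup of exponent two or odd
order. -/
theorem exists_layer {G : Type u} [Group G] [Finite G] [Nontrivial G] [Group.IsSolvable G] :
    ∃ V : Subgroup G, V.Normal ∧ V ≠ ⊥ ∧ (∀ a ∈ V, ∀ b ∈ V, a * b = b * a) ∧
      ((∀ x ∈ V, x ^ 2 = 1) ∨ Odd (Nat.card V)) := by
  obtain ⟨V, hV, hne, hmin⟩ := CfsgLib.Solvable.exists_minimal_normal (G := G)
  have hs : Group.IsSolvable V := inferInstance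
  refine ⟨V, hV, hne, CfsgLib.Solvable.commute_of_minimal_normal V hne hmin hs, ?_⟩
  obtain ⟨p, hp, hexp⟩ :=
    CfsgLib.Solvable.exists_prime_pow_eq_one_of_minimal_normal V hne hmin hs
  rcases hp.eq_two_or_odd' with rfl | hodd
  · exact Or.inl hexp
  · refine Or.inr ?_
    have : Fact p.Prime := ⟨hp⟩
    have hpg : IsPGroup p V := fun x => ⟨1, Subtype.ext (by simpa using hexp x x.2)⟩
    obtain ⟨a, ha⟩ := IsPGroup.iff_card.mp hpg
    rw [ha]
    exact hodd.pow

theorem isPGroup_two_of_sq {G : Type u} [Group G] {V : Subgroup G} (h : ∀ x ∈ V, x ^ 2 = 1) :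
    IsPGroup 2 V := fun x => ⟨1, Subtype.ext (by simpa using h x x.2)⟩

theorem card_quot_lt {G : Type u} [Group G] [Finite G] {V : Subgroup G} (hne : V ≠ ⊥) :
    Nat.card (G ⧸ V) < Nat.card G := by
  have h2 := Subgroup.card_eq_card_quotient_mul_card_subgroup V
  have h4 : 0 < Nat.card (G ⧸ V) := Nat.card_pos
  rw [h2]
  exact lt_mul_of_one_lt_right h4 ((Subgroup.one_lt_card_iff_ne_bot V).mpr hne)

theorem realVal_comp_mk {G : Type u} [Group G] {V : Subgroup G} [V.Normal] {β : G ⧸ V → ℂ}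
    (h : RealVal (β ∘ QuotientGroup.mk)) : RealVal β := fun q => by
  induction q using QuotientGroup.induction_on with
  | H g => exact h g

theorem mul_self_of_sq {G : Type u} [Group G] {μ : G →* ℂˣ} (h : μ ^ 2 = 1) : μ * μ = 1 :=
  MonoidHom.ext fun t => by rw [MonoidHom.mul_apply, ← sq, ← MonoidHom.pow_apply, h]

theorem oddDeg_comp_mk {G : Type u} [Group G] {V : Subgroup G} [V.Normal] {β : G ⧸ V → ℂ} :
    OddDeg (β ∘ QuotientGroup.mk) ↔ OddDeg β := by
  simp only [OddDeg, Function.comp_apply, QuotientGroup.mk_one]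

/-- Conjugators realising `l|V = (l'|V)^n` inside the normalizer. -/
theorem exists_norm_conj {G : Type u} [Group G] [Fintype G] {A : Type v} [Group A] [Fintype A]
    {ι : A →* G} {V : Subgroup G} [V.Normal] [Fintype V] (hι : SylEmb ι) (hVR : V ≤ ι.range)
    {χ : G → ℂ} (hχ : Cfsg.IsIrrCharacter G χ) {l l' : A →* ℂˣ} (h : Con ι χ l)
    (h' : Con ι χ l') :
    ∃ n : G, (∀ a, ∃ b, n * ι a * n⁻¹ = ι b) ∧
      conjFun V n (linFun (thetaHom hι hVR l)) = linFun (thetaHom hι hVR l') := by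
  have : Fact (Nat.Prime 2) := ⟨Nat.prime_two⟩
  obtain ⟨g, hg⟩ := exists_conj_of_constituents V hχ (isCharacter_linFun' _)
    (isCharacter_linFun' _) (h.over hι hVR (isCharacter_of_isIrr hχ))
    (h'.over hι hVR (isCharacter_of_isIrr hχ))
  set T := stab hι hVR l with hTdef
  have hR : IsPGroup 2 ι.range :=
    hι.pgroup.of_surjective ι.rangeRestrict ι.rangeRestrict_surjective
  have hRT : ι.range ≤ T := by
    rintro _ ⟨a, rfl⟩
    exact (mem_stab hι hVR l _).mpr (conjFun_theta hι hVR l a)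
  have hgT : ∀ a, g * ι a * g⁻¹ ∈ T := fun a => by
    refine (mem_stab hι hVR l _).mpr (conjFun_injective V g ?_)
    rw [conjFun_conjFun, inv_mul_cancel_right, hg, ← conjFun_conjFun, hg, conjFun_theta]
  let S : Sylow 2 T := IsPGroup.toSylow (hR.of_equiv (Subgroup.subgroupOfEquivOfLe hRT).symm) (by
    rw [← even_iff_two_dvd, Nat.not_even_iff_odd]
    exact hι.odd_index.of_dvd_nat (Subgroup.relIndex_dvd_index_of_le hRT))
  obtain ⟨t, ht⟩ := CfsgLib.Transfer.exists_conj_mem_sylow S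
    (S := (ι.range.map (MulAut.conj g).toMonoidHom).subgroupOf T)
    ((hR.map _).comap_of_injective T.subtype T.subtype_injective)
  refine ⟨(t : G) * g, fun a => ?_, ?_⟩
  · obtain ⟨b, hb⟩ := ht ⟨g * ι a * g⁻¹, hgT a⟩ ⟨ι a, ⟨a, rfl⟩, rfl⟩
    refine ⟨b, ?_⟩
    have e : (t : G) * g * ι a * ((t : G) * g)⁻¹ = (t : G) * (g * ι a * g⁻¹) * (t : G)⁻¹ := by
      group
    rw [e]
    exact hb.symm
  · rw [← conjFun_conjFun, (mem_stab hι hVR l _).mp t.2, hg]

theorem main (n : ℕ) : ∀ {G : Type u} [Group G] [Fintype G] [Group.IsSolvable G] {A : Type v}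
    [Group A] [Fintype A] (ι : A →* G), SylEmb ι → Nat.card G ≤ n →
    (∀ l : A →* ℂˣ, l ^ 2 = 1 → ∃ χ, RO χ ∧ Con ι χ l) ∧
    (∀ χ χ' : G → ℂ, RO χ → RO χ' → ∀ l : A →* ℂˣ, l ^ 2 = 1 → Con ι χ l → Con ι χ' l →
      χ = χ') ∧
    (∀ χ : G → ℂ, RO χ → ∀ l l' : A →* ℂˣ, l ^ 2 = 1 → l' ^ 2 = 1 → Con ι χ l → Con ι χ l' →
      NConj ι l l') := by
  induction n using Nat.strong_induction_on with
  | _ n IH => ?_
  intro G _ _ _ A _ _ ι hι hn
  rcases subsingleton_or_nontrivial G with hG | hG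
  · have hA : Subsingleton A := hι.inj.subsingleton
    have hl : ∀ l : A →* ℂˣ, l = 1 := fun l => MonoidHom.ext fun a => by
      rw [Subsingleton.elim a 1, map_one, map_one]
    have h1 : ∀ χ : G → ℂ, Cfsg.IsIrrCharacter G χ → χ = fun _ => 1 := fun χ hχ => funext fun g => by
      rw [Subsingleton.elim g 1,
        irr_one_eq_one_of_comm (fun a b => Subsingleton.elim _ _) hχ]
    refine ⟨fun l _ => ⟨fun _ => 1, ⟨isIrrCharacter_one, fun _ => map_one _, 1, odd_one,
      Nat.cast_one.symm⟩, ?_⟩, fun χ χ' h h' _ _ _ _ => (h1 χ h.1).trans (h1 χ' h'.1).symm,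
      fun χ _ l l' _ _ _ _ => ⟨1, fun a => ⟨a, by simp, by rw [hl l, hl l']⟩⟩⟩
    show Cfsg.classInner ((fun _ : G => (1 : ℂ)) ∘ ι) (linFun l) ≠ 0
    rw [hl l]
    exact (classInner_irr_self (isCharacter_linFun' (1 : A →* ℂˣ))).symm ▸ one_ne_zero
  classical
  obtain ⟨V, hV, hne, hcomm, hexp | hodd⟩ := exists_layer (G := G)
  · -- `V` is a 2-group
    have := Fintype.ofFinite V
    have hVR : V ≤ ι.range := hι.le_range (isPGroup_two_of_sq hexp)
    have hpack : ∀ l : A →* ℂˣ,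
        ∃ (_ : Fintype (stab hι hVR l ⧸ vT hι hVR l)) (_ : Fintype (A ⧸ kA hι hVR l))
          (μ : stab hι hVR l →* ℂˣ),
          (l ^ 2 = 1 → μ ^ 2 = 1) ∧
          (∀ v : V, μ ⟨v, le_stab hι hVR l v.2⟩ = thetaHom hι hVR l v) ∧
          (∀ l' : A →* ℂˣ, thetaHom hι hVR l' = thetaHom hι hVR l →
            ∃ q : A ⧸ kA hι hVR l →* ℂˣ, ∀ a : A, q a = l' a * μ (iotaT hι hVR l a)) := by
      intro l
      obtain ⟨μ, hμ, hμ2, hμV⟩ := exists_mu hι hVR l hexp
      refine ⟨Fintype.ofFinite _, Fintype.ofFinite _, μ, hμ2, hμV, fun l' hl' => ?_⟩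
      refine ⟨QuotientGroup.lift (kA hι hVR l) (l' * μ.comp (iotaT hι hVR l)) fun a ha => ?_,
        fun a => rfl⟩
      have h1 : l' a = l a := by
        have h := DFunLike.congr_fun hl' ⟨ι a, ha⟩
        rwa [thetaHom, thetaHom, MonoidHom.comp_apply, MonoidHom.comp_apply,
          jV_apply hι hVR (a := a) rfl] at h
      show l' a * μ (iotaT hι hVR l a) = 1
      rw [h1, hμ a ha, ← sq]
      have h2 := DFunLike.congr_fun (theta_sq hι hVR l hexp) ⟨ι a, ha⟩
      rwa [MonoidHom.pow_apply, thetaHom, MonoidHom.comp_apply, jV_apply hι hVR (a := a) rfl,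
        MonoidHom.one_apply] at h2
    have hqsq : ∀ (l l' : A →* ℂˣ) (μ : stab hι hVR l →* ℂˣ) (q : A ⧸ kA hι hVR l →* ℂˣ),
        l' ^ 2 = 1 → μ ^ 2 = 1 → (∀ a : A, q a = l' a * μ (iotaT hι hVR l a)) → q ^ 2 = 1 := by
      intro l l' μ q h1 h2 hq
      refine QuotientGroup.monoidHom_ext _ (MonoidHom.ext fun a => ?_)
      show q a ^ 2 = 1
      rw [hq, mul_pow, ← MonoidHom.pow_apply, ← MonoidHom.pow_apply, h1, h2]
      simp
    refine ⟨fun l hl => ?_, fun χ χ' hχ hχ' l hl h h' => ?_, fun χ hχ l l' hl hl' h h' => ?_⟩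
    · obtain ⟨_, _, μ, hμ2, hμV, hq⟩ := hpack l
      obtain ⟨q, hqa⟩ := hq l rfl
      obtain ⟨hE, -, -⟩ := IH _ (lt_of_lt_of_le (card_stab_quot_lt hι hVR l hne) hn)
        (iotaQ hι hVR l) (iotaQ_syl hι hVR l) le_rfl
      obtain ⟨β, hβ, hβc⟩ := hE q (hqsq l l μ q hl (hμ2 hl) hqa)
      set η : stab hι hVR l → ℂ := (β ∘ QuotientGroup.mk) * linFun μ with hη
      have hμr := realVal_linFun (hμ2 hl)
      have hirr : Cfsg.IsIrrCharacter _ η := isIrr_mul_linear (isIrr_comp_mk' _ hβ.1)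
        (isCharacter_linFun μ).1 (isCharacter_linFun μ).2
      have hee : η * linFun μ = β ∘ QuotientGroup.mk := by
        rw [hη, mul_assoc, ← map_mul, mul_self_of_sq (hμ2 hl), map_one, mul_one]
      have hcon : Con (iotaT hι hVR l) η l := (con_descend hι hVR l (hμ2 hl) hee l q hqa).mpr hβc
      have hηV : Cfsg.classInner (fun v : V => η ⟨v, le_stab hι hVR l v.2⟩)
          (linFun (thetaHom hι hVR l)) ≠ 0 := by
        have h2 := hcon.comp (isCharacter_of_isIrr hirr) (jV hι hVR)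
        rw [Con, show (iotaT hι hVR l).comp (jV hι hVR) = Subgroup.inclusion (le_stab hι hVR l)
          from MonoidHom.ext fun v => Subtype.ext (apply_jV hι hVR v)] at h2
        exact h2
      obtain ⟨χ, hχ, -, hr, hd, hc, -⟩ := exists_induced hι hVR l hirr hηV
      refine ⟨χ, ⟨hχ, hr fun t => ?_, hd ?_⟩, hc l hcon⟩
      · rw [hη, Pi.mul_apply, map_mul, hμr, Function.comp_apply, hβ.2.1]
      · obtain ⟨m, hm, hm1⟩ := hβ.2.2
        exact ⟨m, hm, by rw [hη, Pi.mul_apply, Function.comp_apply, QuotientGroup.mk_one,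
          (isCharacter_linFun μ).2, hm1, mul_one]⟩
    · obtain ⟨_, _, μ, hμ2, hμV, hq⟩ := hpack l
      obtain ⟨q, hqa⟩ := hq l rfl
      obtain ⟨-, hU, -⟩ := IH _ (lt_of_lt_of_le (card_stab_quot_lt hι hVR l hne) hn)
        (iotaQ hι hVR l) (iotaQ_syl hι hVR l) le_rfl
      have hθ2 := theta_sq hι hVR l hexp
      obtain ⟨η, hη, hind, hd, hr, hov, hc⟩ :=
        exists_correspondent hι hVR l hχ.1 hχ.2.2 hθ2 h
      obtain ⟨η', hη', hind', hd', hr', hov', hc'⟩ :=
        exists_correspondent hι hVR l hχ'.1 hχ'.2.2 hθ2 h'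
      obtain ⟨β, hβ, he, hbr, hbd⟩ := exists_descend hι hVR l (hμ2 hl) hμV hη hov
      obtain ⟨β', hβ', he', hbr', hbd'⟩ := exists_descend hι hVR l (hμ2 hl) hμV hη' hov'
      have hbb := hU β β' ⟨hβ, hbr (hr hχ.2.1), hbd hd⟩ ⟨hβ', hbr' (hr' hχ'.2.1), hbd' hd'⟩ q
        (hqsq l l μ q hl (hμ2 hl) hqa)
        ((con_descend hι hVR l (hμ2 hl) he l q hqa).mp (hc l rfl h))
        ((con_descend hι hVR l (hμ2 hl) he' l q hqa).mp (hc' l rfl h'))
      have hee : η = η' := by
        have h3 : η * linFun μ * linFun μ = η' * linFun μ * linFun μ := by rw [he, he', hbb]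
        rwa [mul_assoc, mul_assoc, ← map_mul, mul_self_of_sq (hμ2 hl), map_one, mul_one, mul_one] at h3
      rw [← hind, ← hind', hee]
    · obtain ⟨g, hg, hgθ⟩ := exists_norm_conj hι hVR hχ.1 h h'
      choose φ hφ using hg
      have hφinj : Function.Injective φ := fun a b e => hι.inj (mul_left_cancel (mul_right_cancel
        ((hφ a).trans (e ▸ (hφ b).symm))))
      let φh : A →* A :=
        { toFun := φ
          map_one' := hι.inj (by rw [← hφ, map_one]; group)
          map_mul' := fun a b => hι.inj (by rw [map_mul, ← hφ, ← hφ, ← hφ, map_mul]; group) }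
      let φe : A ≃* A := MulEquiv.ofBijective φh (Finite.injective_iff_bijective.mp hφinj)
      let l'' : A →* ℂˣ := l'.comp φe.symm.toMonoidHom
      have hl''φ : ∀ a, l'' (φ a) = l' a := fun a =>
        congrArg l' (φe.symm_apply_apply a)
      have hl''2 : l'' ^ 2 = 1 := MonoidHom.ext fun a => by
        show l' (φe.symm a) ^ 2 = 1
        rw [← MonoidHom.pow_apply, hl']; rfl
      have hc'' : Con ι χ l'' := by
        refine h'.conj hι.inj (isClassFunction_of_isIrr hχ.1) ⟨g⁻¹, fun a => ⟨φe.symm a, ?_, rfl⟩⟩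
        have h1 : g * ι (φe.symm a) * g⁻¹ = ι a :=
          (hφ (φe.symm a)).trans (congrArg ι (φe.apply_symm_apply a))
        rw [← h1]
        group
      have hθeq : thetaHom hι hVR l'' = thetaHom hι hVR l := by
        refine MonoidHom.ext fun v => ?_
        obtain ⟨a, ha⟩ : ∃ a, φ a = jV hι hVR v :=
          (Finite.injective_iff_bijective.mp hφinj).2 _
        have hav : ι a ∈ V := by
          have h1 : ι a = g⁻¹ * v * g⁻¹⁻¹ := by
            rw [← apply_jV hι hVR v, ← ha, ← hφ a]; group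
          rw [h1]
          exact hV.conj_mem _ v.2 _
        have h2 := congrFun hgθ ⟨ι a, hav⟩
        rw [conjFun_apply, linFun_apply, linFun_apply, Units.val_inj, thetaHom, thetaHom,
          MonoidHom.comp_apply, MonoidHom.comp_apply, jV_apply hι hVR (a := φ a) (hφ a).symm,
          jV_apply hι hVR (a := a) rfl, ← hl''φ a] at h2
        show l'' (jV hι hVR v) = l (jV hι hVR v)
        rw [← ha, h2]
      obtain ⟨_, _, μ, hμ2, hμV, hq⟩ := hpack l
      obtain ⟨q, hqa⟩ := hq l rfl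
      obtain ⟨q'', hq''a⟩ := hq l'' hθeq
      obtain ⟨-, -, hC⟩ := IH _ (lt_of_lt_of_le (card_stab_quot_lt hι hVR l hne) hn)
        (iotaQ hι hVR l) (iotaQ_syl hι hVR l) le_rfl
      have hθ2 := theta_sq hι hVR l hexp
      obtain ⟨η, hη, -, hd, hr, hov, hc⟩ :=
        exists_correspondent hι hVR l hχ.1 hχ.2.2 hθ2 h
      obtain ⟨β, hβ, he, hbr, hbd⟩ := exists_descend hι hVR l (hμ2 hl) hμV hη hov
      obtain ⟨x, hx⟩ := hC β ⟨hβ, hbr (hr hχ.2.1), hbd hd⟩ q q''
        (hqsq l l μ q hl (hμ2 hl) hqa) (hqsq l l'' μ q'' hl''2 (hμ2 hl) hq''a)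
        ((con_descend hι hVR l (hμ2 hl) he l q hqa).mp (hc l rfl h))
        ((con_descend hι hVR l (hμ2 hl) he l'' q'' hq''a).mp (hc l'' hθeq hc''))
      obtain ⟨t, rfl⟩ := QuotientGroup.mk_surjective x
      refine ⟨(t : G) * g, fun a => ?_⟩
      obtain ⟨bq, hb, hbl⟩ := hx (φ a : A ⧸ kA hι hVR l)
      obtain ⟨b, rfl⟩ := QuotientGroup.mk_surjective bq
      rw [iotaQ_mk, iotaQ_mk, ← QuotientGroup.mk_inv, ← QuotientGroup.mk_mul,
        ← QuotientGroup.mk_mul, QuotientGroup.eq] at hb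
      set z : stab hι hVR l := t * iotaT hι hVR l (φ a) * t⁻¹ with hz
      have hz' : (z⁻¹ * iotaT hι hVR l b : stab hι hVR l) ∈ vT hι hVR l := hb
      obtain ⟨c, hc'⟩ := hVR (Subgroup.mem_subgroupOf.mp hz' :)
      refine ⟨b * c⁻¹, ?_, ?_⟩
      · have e : (t : G) * g * ι a * ((t : G) * g)⁻¹ = (z : G) := by
          rw [hz]
          simp only [Subgroup.coe_mul, Subgroup.coe_inv, coe_iotaT, ← hφ a]
          group
        rw [e, map_mul, map_inv, hc']
        simp [coe_iotaT]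
      · have hzb : iotaT hι hVR l (b * c⁻¹) = z := Subtype.ext (by
          rw [coe_iotaT, map_mul, map_inv, hc']
          simp [coe_iotaT])
        have hck : c ∈ kA hι hVR l := by
          rw [mem_kA, hc']; exact Subgroup.mem_subgroupOf.mp hz'
        have hmk : ((b * c⁻¹ : A) : A ⧸ kA hι hVR l) = (b : A ⧸ kA hι hVR l) := by
          rw [QuotientGroup.mk_mul, QuotientGroup.mk_inv, (QuotientGroup.eq_one_iff c).mpr hck,
            inv_one, mul_one]
        rw [← hmk, hq''a, hqa, hzb, hz, map_mul μ, map_mul μ, map_inv μ, mul_comm (μ t),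
          mul_inv_cancel_right] at hbl
        rw [← hl''φ a]
        exact mul_right_cancel hbl
  · -- `V` has odd order
    have := Fintype.ofFinite V
    have := Fintype.ofFinite (G ⧸ V)
    obtain ⟨hE, hU, hC⟩ := IH _ (lt_of_lt_of_le (card_quot_lt hne) hn)
      ((QuotientGroup.mk' V).comp ι) (hι.quot hodd) le_rfl
    have hdesc : ∀ χ : G → ℂ, RO χ → ∃ β, RO β ∧ β ∘ QuotientGroup.mk = χ ∧
        ∀ l, Con ι χ l → Con ((QuotientGroup.mk' V).comp ι) β l := by
      intro χ hχ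
      obtain ⟨β, hβ, rfl⟩ := exists_irr_eq_comp_mk' V hχ.1 (real_trivial hcomm hodd hχ)
      exact ⟨β, ⟨hβ, realVal_comp_mk hχ.2.1, oddDeg_comp_mk.mp hχ.2.2⟩, rfl, fun l h => h⟩
    refine ⟨fun l hl => ?_, fun χ χ' hχ hχ' l hl h h' => ?_, fun χ hχ l l' hl hl' h h' => ?_⟩
    · obtain ⟨β, hβ, hc⟩ := hE l hl
      exact ⟨β ∘ QuotientGroup.mk,
        ⟨isIrr_comp_mk' V hβ.1, fun g => hβ.2.1 _, oddDeg_comp_mk.mpr hβ.2.2⟩, hc⟩
    · obtain ⟨β, hβ, rfl, hc⟩ := hdesc χ hχ
      obtain ⟨β', hβ', rfl, hc'⟩ := hdesc χ' hχ'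
      rw [hU β β' hβ hβ' l hl (hc l h) (hc' l h')]
    · obtain ⟨β, hβ, rfl, hc⟩ := hdesc χ hχ
      obtain ⟨x, hx⟩ := hC β hβ l l' hl hl' (hc l h) (hc l' h')
      obtain ⟨g, rfl⟩ := QuotientGroup.mk'_surjective V x
      obtain ⟨m, hm, hmn⟩ := exists_norm_lift hι hodd g fun a => by
        obtain ⟨b, hb, -⟩ := hx a
        exact ⟨b, by simpa using hb⟩
      refine ⟨m, fun a => ?_⟩
      obtain ⟨b, hb, hbl⟩ := hx a
      obtain ⟨b', hb'⟩ := hmn a
      refine ⟨b', hb', ?_⟩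
      rw [hbl]
      congr 1
      refine (hι.quot hodd).inj ?_
      rw [← hb]
      simp only [MonoidHom.comp_apply, ← hb', map_mul, map_inv, hm]

end CfsgLib.RealOdd
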