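import Cfsg.Agent.Lib.CharNormal.RealOdd.Basic
import Cfsg.Agent.Lib.PStab.Reduction

/-!
# A normal subgroup of odd order

Real characters of odd degree are trivial on an abelian normal subgroup of odd order, and so
are all characters of odd degree when the Sylow 2-subgroup fixes only the identity.
-/

set_option autoImplicit false

namespace CfsgLib.RealOdd

open CfsgLib.Char CfsgLib.Char.EqualCentralizers CfsgLib.CharNormal
open scoped ComplexConjugate

variable {G : Type*} [Group G] [Fintype G] {A : Type*} [Group A] {ι : A →* G}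
  {V : Subgroup G} [hV : V.Normal]

/-- An element of an odd subgroup which lies in the Sylow subgroup is trivial. -/
theorem SylEmb.eq_one_of_mem (hι : SylEmb ι) (hodd : Odd (Nat.card V)) {a : A} (ha : ι a ∈ V) :
    a = 1 := by
  have := Fintype.ofFinite V
  have : Finite A := Finite.of_injective ι hι.inj
  obtain ⟨k, hk⟩ := IsPGroup.iff_orderOf.mp hι.pgroup a
  have h1 : orderOf a ∣ Nat.card V := by
    have := orderOf_dvd_natCard (⟨ι a, ha⟩ : V)
    rwa [← Subgroup.orderOf_coe, orderOf_injective ι hι.inj] at this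
  rw [← orderOf_eq_one_iff]
  exact Nat.eq_one_of_dvd_coprimes
    (Nat.Coprime.pow_left k (Nat.coprime_two_left.mpr hodd)) (hk ▸ dvd_rfl) h1

theorem SylEmb.quot (hι : SylEmb ι) (hodd : Odd (Nat.card V)) :
    SylEmb ((QuotientGroup.mk' V).comp ι) where
  inj := (injective_iff_map_eq_one _).mpr fun _ ha =>
    hι.eq_one_of_mem hodd ((QuotientGroup.eq_one_iff _).mp ha)
  pgroup := hι.pgroup
  odd_index := by
    rw [MonoidHom.range_comp]
    exact hι.odd_index.of_dvd_nat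
      (ι.range.index_map_dvd (QuotientGroup.mk'_surjective V))

/-- Elements of the quotient normalising the Sylow subgroup lift to normalising elements. -/
theorem exists_norm_lift (hι : SylEmb ι) (hodd : Odd (Nat.card V)) (g : G)
    (hg : ∀ a, ∃ b, (QuotientGroup.mk' V) (g * ι a * g⁻¹) = QuotientGroup.mk' V (ι b)) :
    ∃ n : G, (QuotientGroup.mk' V) n = QuotientGroup.mk' V g ∧
      ∀ a, ∃ b, n * ι a * n⁻¹ = ι b := by
  have : Fact (Nat.Prime 2) := ⟨Nat.prime_two⟩
  have hR : IsPGroup 2 ι.range :=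
    hι.pgroup.of_surjective ι.rangeRestrict ι.rangeRestrict_surjective
  have hq : QuotientGroup.mk' V g ∈
      Subgroup.normalizer ((ι.range.map (QuotientGroup.mk' V) : Subgroup (G ⧸ V)) : Set (G ⧸ V)) := by
    refine CfsgLib.Solvable.mem_normalizer_of_conj_mem ?_
    rintro _ ⟨_, ⟨a, rfl⟩, rfl⟩
    obtain ⟨b, hb⟩ := hg a
    exact ⟨ι b, ⟨b, rfl⟩, by rw [← hb, map_mul, map_mul, map_inv]⟩
  obtain ⟨n, hn, e⟩ := CfsgLib.PStab.normalizer_map_le (p := 2)
    (Nat.coprime_two_right.mpr hodd) hR hq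
  refine ⟨n, e, fun a => ?_⟩
  obtain ⟨b, hb⟩ := (Subgroup.mem_normalizer_iff.mp hn (ι a)).mp ⟨a, rfl⟩
  exact ⟨b, hb.symm⟩

/-- A homomorphism with odd-order source and values of square one is trivial. -/
theorem hom_eq_one_of_sq {H : Type*} [Group H] [Finite H] (hodd : Odd (Nat.card H))
    {l : H →* ℂˣ} {j : ℕ} (h : l ^ 2 ^ j = 1) : l = 1 := by
  refine MonoidHom.ext fun v => ?_
  have h1 : l v ^ 2 ^ j = 1 := by rw [← MonoidHom.pow_apply, h, MonoidHom.one_apply]
  have h2 : l v ^ Nat.card H = 1 := by rw [← map_pow, pow_card_eq_one', map_one]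
  have h3 := pow_gcd_eq_one.mpr ⟨h1, h2⟩
  rwa [(Nat.Coprime.pow_left j (Nat.coprime_two_left.mpr hodd)).gcd_eq_one, pow_one] at h3

variable [Fintype V]

omit [Fintype G] in
theorem linear_of_comm (hcomm : ∀ a ∈ V, ∀ b ∈ V, a * b = b * a) (φ : Cfsg.IrrCharacter V) :
    ∃ l : V →* ℂˣ, linFun l = (φ : V → ℂ) :=
  exists_linHom (isCharacter_of_isIrr φ.2)
    (irr_one_eq_one_of_comm (fun a b => Subtype.ext (hcomm a a.2 b b.2)) φ.2)

theorem odd_card_orbit (hcomm : ∀ a ∈ V, ∀ b ∈ V, a * b = b * a) {χ : G → ℂ}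
    (hχ : Cfsg.IsIrrCharacter G χ) (hd : OddDeg χ) (θ : Cfsg.IrrCharacter V)
    (h0 : Cfsg.classInner (fun v : V => χ v) (θ : V → ℂ) ≠ 0) : Odd (orbit V θ).card := by
  obtain ⟨n, hn, hn1⟩ := hd
  obtain ⟨m, hm⟩ := classInner_char_nat (isCharacter_res V (isCharacter_of_isIrr hχ))
    (isCharacter_of_isIrr θ.2)
  obtain ⟨l, hl⟩ := linear_of_comm hcomm θ
  have h := degree_eq_mul_card_orbit V hχ θ h0
  rw [hn1, hm, ← hl, (isCharacter_linFun l).2, mul_one, ← Nat.cast_mul, Nat.cast_inj] at h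
  exact (Nat.odd_mul.mp (h ▸ hn)).2

/-- A real character of odd degree is trivial on an abelian normal subgroup of odd order. -/
theorem real_trivial (hcomm : ∀ a ∈ V, ∀ b ∈ V, a * b = b * a) (hodd : Odd (Nat.card V))
    {χ : G → ℂ} (hχ : RO χ) : ∀ v ∈ V, χ v = χ 1 := by
  classical
  have : Fact (Nat.Prime 2) := ⟨Nat.prime_two⟩
  obtain ⟨θ, hθ, h0⟩ := exists_constituent (isCharacter_res V (isCharacter_of_isIrr hχ.1))
    fun h => irr_one_ne_zero hχ.1 (by simpa using congrFun h 1)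
  have hcon : ∀ φ ∈ orbit V ⟨θ, hθ⟩,
      Cfsg.classInner (fun v : V => χ v) (φ : V → ℂ) ≠ 0 := by
    intro φ hφ
    obtain ⟨g, hg⟩ := (mem_orbit V).mp hφ
    rw [← hg, classInner_res_conjFun V (isClassFunction_of_isIrr hχ.1) g]
    exact h0
  let c : {φ // φ ∈ orbit V ⟨θ, hθ⟩} → {φ // φ ∈ orbit V ⟨θ, hθ⟩} := fun φ =>
    ⟨⟨_, isIrr_conj φ.1.2⟩, by
      refine (mem_orbit V).mpr (exists_conj_of_constituents V hχ.1 hθ (isIrr_conj φ.1.2) h0 ?_)
      rw [classInner_conj_of_real (fun v : V => hχ.2.1 v), ne_eq, map_eq_zero]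
      exact hcon φ.1 φ.2⟩
  have hc : Function.Involutive c := fun φ =>
    Subtype.ext (Subtype.ext (funext fun v => Complex.conj_conj _))
  obtain ⟨φ, hφ⟩ := Equiv.Perm.exists_fixed_point_of_prime (p := 2) (n := 1)
    (by rw [Fintype.card_coe, ← even_iff_two_dvd, Nat.not_even_iff_odd]
        exact odd_card_orbit hcomm hχ.1 hχ.2.2 ⟨θ, hθ⟩ h0)
    (σ := hc.toPerm c) (by ext1 φ; simp [sq, Equiv.Perm.mul_apply, hc φ])
  obtain ⟨l, hl⟩ := linear_of_comm hcomm φ.1
  have hl2 : l ^ 2 = 1 := sq_eq_one_of_realVal (by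
    rw [hl]; exact fun v => congrFun (congrArg (fun x => (x.1.1 : V → ℂ)) hφ) v)
  refine res_eq_degree_of_constituent_one V hχ.1 ?_
  have h1 := hcon φ.1 φ.2
  rw [← hl, hom_eq_one_of_sq hodd (l := l) (j := 1) (by rw [pow_one]; exact hl2), map_one] at h1
  exact h1

/-- An invariant linear character is trivial when only the identity is fixed. -/
theorem hom_eq_one_of_fixed [Fintype A] (hcomm : ∀ a ∈ V, ∀ b ∈ V, a * b = b * a)
    (hA : IsPGroup 2 A) (hodd : Odd (Nat.card V))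
    (hfix : ∀ v ∈ V, (∀ a, ι a * v * (ι a)⁻¹ = v) → v = 1) {l : V →* ℂˣ}
    (hl : ∀ (a : A) (v : V), l ⟨ι a * v * (ι a)⁻¹, hV.conj_mem v v.2 (ι a)⟩ = l v) : l = 1 := by
  have : Fact (Nat.Prime 2) := ⟨Nat.prime_two⟩
  letI : CommGroup V :=
    { (inferInstance : Group V) with mul_comm := fun a b => Subtype.ext (hcomm a a.2 b b.2) }
  obtain ⟨j, hj⟩ := IsPGroup.iff_card.mp hA
  refine hom_eq_one_of_sq hodd (j := j) (MonoidHom.ext fun v => ?_)
  let π : V := ∏ a : A, MulAut.conjNormal (ι a) v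
  have hπ : π = 1 := by
    refine Subtype.ext (hfix π π.2 fun c => ?_)
    have h : MulAut.conjNormal (ι c) π = π := by
      simp only [π, map_prod]
      refine Fintype.prod_equiv (Equiv.mulLeft c) _ _ fun a => ?_
      show _ = MulAut.conjNormal (ι (c * a)) v
      rw [map_mul, map_mul]; rfl
    exact congrArg Subtype.val h
  have h2 : l π = l v ^ Nat.card A := by
    simp only [π, map_prod]
    rw [Finset.prod_congr rfl fun a _ => show l (MulAut.conjNormal (ι a) v) = l v from hl a v,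
      Finset.prod_const, Finset.card_univ, Nat.card_eq_fintype_card]
  rw [MonoidHom.pow_apply, ← hj, ← h2, hπ, map_one, MonoidHom.one_apply]

/-- Characters of odd degree are trivial on `V` when the Sylow subgroup fixes only the
identity of `V`. -/
theorem odd_trivial [Fintype A] (hcomm : ∀ a ∈ V, ∀ b ∈ V, a * b = b * a)
    (hA : IsPGroup 2 A) (hodd : Odd (Nat.card V))
    (hfix : ∀ v ∈ V, (∀ a, ι a * v * (ι a)⁻¹ = v) → v = 1) {χ : G → ℂ}
    (hχ : Cfsg.IsIrrCharacter G χ) (hd : OddDeg χ) : ∀ v ∈ V, χ v = χ 1 := by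
  classical
  have : Fact (Nat.Prime 2) := ⟨Nat.prime_two⟩
  obtain ⟨θ, hθ, h0⟩ := exists_constituent (isCharacter_res V (isCharacter_of_isIrr hχ))
    fun h => irr_one_ne_zero hχ (by simpa using congrFun h 1)
  letI : MulAction A {φ // φ ∈ orbit V ⟨θ, hθ⟩} :=
    { smul := fun a φ => ⟨conjIrr V (ι a)⁻¹ φ.1, by
        obtain ⟨g, hg⟩ := (mem_orbit V).mp φ.2
        exact (mem_orbit V).mpr ⟨g * (ι a)⁻¹, by rw [conjIrr_coe, ← hg, conjFun_conjFun]⟩⟩
      one_smul := fun φ => Subtype.ext (Subtype.ext (by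
        show conjFun V (ι 1)⁻¹ _ = _
        rw [map_one, inv_one, conjFun_one]))
      mul_smul := fun a b φ => Subtype.ext (Subtype.ext (by
        show conjFun V (ι (a * b))⁻¹ _ = conjFun V (ι a)⁻¹ (conjFun V (ι b)⁻¹ _)
        rw [conjFun_conjFun, map_mul, mul_inv_rev])) }
  obtain ⟨φ, hφ⟩ := hA.nonempty_fixed_point_of_prime_not_dvd_card
    {φ // φ ∈ orbit V ⟨θ, hθ⟩}
    (by rw [Nat.card_eq_fintype_card, Fintype.card_coe, ← even_iff_two_dvd, Nat.not_even_iff_odd]
        exact odd_card_orbit hcomm hχ hd ⟨θ, hθ⟩ h0)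
  obtain ⟨l, hl⟩ := linear_of_comm hcomm φ.1
  have hl1 : l = 1 := hom_eq_one_of_fixed hcomm hA hodd hfix fun a v => by
    have h := congrArg (fun x : {φ // φ ∈ orbit V ⟨θ, hθ⟩} => (x.1 : V → ℂ)) (hφ a⁻¹)
    have h' := congrFun h v
    change conjFun V (ι a⁻¹)⁻¹ (φ.1 : V → ℂ) v = (φ.1 : V → ℂ) v at h'
    rw [map_inv, inv_inv, conjFun_apply, ← hl] at h'
    exact Units.ext h'
  refine res_eq_degree_of_constituent_one V hχ ?_
  obtain ⟨g, hg⟩ := (mem_orbit V).mp φ.2
  have h1 : Cfsg.classInner (fun v : V => χ v) (φ.1 : V → ℂ) ≠ 0 := by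
    rw [← hg, classInner_res_conjFun V (isClassFunction_of_isIrr hχ) g]; exact h0
  rw [← hl, hl1, map_one] at h1
  exact h1

end CfsgLib.RealOdd
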